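import Groth.Agent.H05EGA4.RegularPD
import Mathlib.RingTheory.Spectrum.Prime.FreeLocus
import Mathlib.RingTheory.LocalProperties.ProjectiveDimension
import Mathlib.RingTheory.Ideal.AssociatedPrime.Localization

/-!
# Ideals of finite projective dimension with a free summand in the conormal module
-/

set_option autoImplicit false
set_option linter.style.haveILetI false
set_option linter.unusedSectionVars false

universe u

noncomputable section

open CategoryTheory IsLocalRing

namespace Groth.Agent.H11Misc.Vasconcelos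

variable {R : Type u} [CommRing R] [IsNoetherianRing R] [IsLocalRing R]

/-- A module of finite projective dimension is free of constant rank at the associated primes. -/
theorem exists_rank (n : ℕ) : ∀ (M : Type u) [AddCommGroup M] [Module R M] [Module.Finite R M],
    HasProjectiveDimensionLT (ModuleCat.of R M) (n + 1) →
    ∃ r : ℤ, ∀ (P : Ideal R) [P.IsPrime], P ∈ associatedPrimes R R →
      Module.Free (Localization.AtPrime P) (LocalizedModule P.primeCompl M) ∧
        (Module.finrank (Localization.AtPrime P) (LocalizedModule P.primeCompl M) : ℤ) = r := by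
  induction n with
  | zero =>
    intro M _ _ _ h
    have : Module.Projective R M := by
      rw [IsProjective.iff_projective, projective_iff_hasProjectiveDimensionLT_one]; exact h
    have : Module.Free R M := Module.free_of_flat_of_isLocalRing
    refine ⟨Module.finrank R M, fun P _ _ => ⟨?_, ?_⟩⟩
    · exact Module.free_of_isLocalizedModule P.primeCompl (LocalizedModule.mkLinearMap P.primeCompl M)
    · exact congrArg Nat.cast (Module.finrank_of_isLocalizedModule_of_free (Localization.AtPrime P) P.primeCompl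
        (LocalizedModule.mkLinearMap P.primeCompl M))
  | succ n ih =>
    intro M _ _ _ h
    obtain ⟨m, f, hf⟩ := Module.Finite.exists_fin' R M
    obtain ⟨r, hr⟩ := ih (LinearMap.ker f)
      (((LinearMap.shortExact_shortComplexKer hf).hasProjectiveDimensionLT_X₃_iff n
        (ModuleCat.projective_of_categoryTheory_projective _)).1 h)
    refine ⟨m - r, fun P _ hP => ?_⟩
    obtain ⟨hK, hKr⟩ := hr P hP
    let S := P.primeCompl
    let fS := LocalizedModule.map S f
    let gS := LocalizedModule.map S (LinearMap.ker f).subtype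
    have hex : Function.Exact gS fS := LocalizedModule.map_exact S _ _ f.exact_subtype_ker_map
    have hgi : Function.Injective gS := LocalizedModule.map_injective S _ Subtype.val_injective
    have hfs : Function.Surjective fS := LocalizedModule.map_surjective S _ hf
    have : Module.Free (Localization.AtPrime P) (LocalizedModule S (Fin m → R)) :=
      Module.free_of_isLocalizedModule S (LocalizedModule.mkLinearMap S (Fin m → R))
    have hFm : Module.finrank (Localization.AtPrime P) (LocalizedModule S (Fin m → R)) = m :=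
      (Module.finrank_of_isLocalizedModule_of_free (Localization.AtPrime P) S
        (LocalizedModule.mkLinearMap S (Fin m → R))).trans (Module.finrank_fin_fun R)
    haveI : Module.Free (Localization.AtPrime P) (LocalizedModule S ↥(LinearMap.ker f)) := hK
    have hM : Module.Free (Localization.AtPrime P) (LocalizedModule S M) := by
      refine H05EGA4.free_of_maximalIdeal_mem_associatedPrimes
        (Module.associatedPrimes.mem_associatedPrimes_atPrime_of_mem_associatedPrimes hP) 1 _ ?_
      refine (ModuleCat.shortComplex_shortExact (ShortComplex.mk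
        (X₁ := ModuleCat.of (Localization.AtPrime P) (LocalizedModule S ↥(LinearMap.ker f)))
        (ModuleCat.ofHom gS) (ModuleCat.ofHom fS)
        (ModuleCat.hom_ext hex.linearMap_comp_eq_zero)) hex hgi hfs).hasProjectiveDimensionLT_X₃ 1 ?_ ?_
      · rw [← projective_iff_hasProjectiveDimensionLT_one, ← IsProjective.iff_projective]
        infer_instance
      · have : HasProjectiveDimensionLT (ModuleCat.of (Localization.AtPrime P) (LocalizedModule S (Fin m → R))) 1 := by
          rw [← projective_iff_hasProjectiveDimensionLT_one, ← IsProjective.iff_projective]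
          infer_instance
        exact hasProjectiveDimensionLT_of_ge _ 1 _ (by omega)
    refine ⟨hM, ?_⟩
    obtain ⟨l, hl⟩ := Module.projective_lifting_property fS LinearMap.id hfs
    have hl' : ∀ z, fS (l z) = z := fun z => LinearMap.congr_fun hl z
    have h1 := (LinearEquiv.ofBijective (gS.coprod l) ⟨fun x y hxy => by
      have h2 : x.2 = y.2 := by
        have h3 := congrArg fS hxy
        simp only [LinearMap.coprod_apply, map_add, hex.apply_apply_eq_zero, zero_add, hl'] at h3
        exact h3
      refine Prod.ext (hgi ?_) h2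
      simp only [LinearMap.coprod_apply, h2, add_left_inj] at hxy
      exact hxy, fun z => by
      obtain ⟨k, hk⟩ := (hex (z - l (fS z))).1 (by rw [map_sub, hl', sub_self])
      exact ⟨(k, fS z), by rw [LinearMap.coprod_apply, hk, sub_add_cancel]⟩⟩).symm.finrank_eq
    replace h1 : m = Module.finrank (Localization.AtPrime P) (LocalizedModule P.primeCompl ↥(LinearMap.ker f)) +
        Module.finrank (Localization.AtPrime P) (LocalizedModule P.primeCompl M) :=
      hFm.symm.trans (h1.trans Module.finrank_prod)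
    omega

/-- A nonzero ideal of finite projective dimension lies in no associated prime. -/
theorem not_le_associatedPrime {I : Ideal R} (hI : I ≠ ⊥) {n : ℕ}
    (hpd : HasProjectiveDimensionLT (ModuleCat.of R I) (n + 1)) {P : Ideal R} (hP : P ∈ associatedPrimes R R) :
    ¬ I ≤ P := by
  intro hIP
  obtain ⟨r, hr⟩ := exists_rank n I hpd
  haveI := hP.isPrime
  have h0 : r = 0 := by
    obtain ⟨hfree, hrank⟩ := hr P hP
    obtain ⟨-, a, ha⟩ := (isAssociatedPrime_iff).1 hP
    have hkill : ∀ z : LocalizedModule P.primeCompl I, a • z = 0 := fun z => by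
      induction z using LocalizedModule.induction_on with
      | _ y t =>
        have hy : a • y = 0 := Subtype.ext (by
          have := ha.le (hIP y.2)
          rw [Submodule.mem_colon_singleton, Submodule.mem_bot, smul_eq_mul, mul_comm] at this
          exact this)
        rw [LocalizedModule.smul'_mk, hy, LocalizedModule.zero_mk]
    rw [← hrank, Nat.cast_eq_zero]
    by_contra hne
    haveI : Module.Free (Localization.AtPrime P) (LocalizedModule P.primeCompl I) := hfree
    let b := Module.finBasis (Localization.AtPrime P) (LocalizedModule P.primeCompl I)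
    let i₀ : Fin (Module.finrank (Localization.AtPrime P) (LocalizedModule P.primeCompl I)) := ⟨0, Nat.pos_of_ne_zero hne⟩
    have h0 := congrArg (fun z => b.repr z i₀) ((algebraMap_smul (Localization.AtPrime P) a (b i₀)).trans (hkill _))
    have h1 : algebraMap R (Localization.AtPrime P) a = 0 := by
      simpa [-algebraMap_smul, map_smul] using h0
    obtain ⟨c, hc⟩ := (IsLocalization.map_eq_zero_iff P.primeCompl (Localization.AtPrime P) a).1 h1
    exact c.2 (ha.ge (Submodule.mem_colon_singleton.2 (by simpa using hc)))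
  refine hI ((Submodule.eq_bot_iff _).2 fun x hx => by_contra fun hx0 => ?_)
  obtain ⟨Q, hQ, hxQ⟩ := exists_le_isAssociatedPrime_of_isNoetherianRing R x hx0
  haveI := hQ.isPrime
  obtain ⟨hfree, hrank⟩ := hr Q hQ
  haveI := hfree
  have hsub : Subsingleton (LocalizedModule Q.primeCompl I) := by
    rw [h0, Nat.cast_eq_zero] at hrank
    exact (Module.finrank_eq_zero_iff_of_free (Localization.AtPrime Q) _).1 hrank
  obtain ⟨c, hc, hcx⟩ := LocalizedModule.subsingleton_iff.1 hsub ⟨x, hx⟩
  exact hc (hxQ (Submodule.mem_colon_singleton.2 (by simpa using congrArg Subtype.val hcx)))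

/-- A coset of an ideal contained in none of finitely many primes meets their complement. -/
theorem exists_add_notMem {A : Type u} [CommRing A] (J : Ideal A) (x : A) :
    ∀ s : Finset (Ideal A), (∀ P ∈ s, P.IsPrime) → (∀ P ∈ s, ¬ J ≤ P) → ∃ y ∈ J, ∀ P ∈ s, x + y ∉ P := by
  classical
  intro s
  induction s using Finset.strongInduction with
  | _ s ih =>
    intro hprime hJ
    rcases s.eq_empty_or_nonempty with rfl | hne
    · exact ⟨0, zero_mem _, by simp⟩
    obtain ⟨P, hP, hPmin⟩ := s.exists_minimal hne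
    obtain ⟨y, hy, hys⟩ := ih (s.erase P) (Finset.erase_ssubset hP)
      (fun Q hQ => hprime Q (Finset.mem_of_mem_erase hQ)) fun Q hQ => hJ Q (Finset.mem_of_mem_erase hQ)
    by_cases hxy : x + y ∈ P
    · have hnot : ∀ Q ∈ s.erase P, ¬ Q ≤ P := fun Q hQ hle =>
        (Finset.ne_of_mem_erase hQ) (le_antisymm hle (hPmin (Finset.mem_of_mem_erase hQ) hle))
      obtain ⟨j, hj, hjP⟩ := Set.not_subset.1 (hJ P hP)
      choose! q hq hqP using fun Q hQ => Set.not_subset.1 (hnot Q hQ)
      let z := j * ∏ Q ∈ s.erase P, q Q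
      have hzP : z ∉ P := fun h => ((hprime P hP).mem_or_mem h).elim hjP fun h' => by
        obtain ⟨Q, hQ, hQP⟩ := (hprime P hP).prod_mem_iff.1 h'
        exact hqP Q hQ hQP
      refine ⟨y + z, add_mem hy (J.mul_mem_right _ hj), fun Q hQ hmem => ?_⟩
      rw [← add_assoc] at hmem
      by_cases hQP : Q = P
      · subst hQP
        exact hzP (by simpa using sub_mem hmem hxy)
      · have hQ' := Finset.mem_erase.2 ⟨hQP, hQ⟩
        have hzQ : z ∈ Q := Q.mul_mem_left _ (by
          rw [← Finset.prod_erase_mul _ _ hQ']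
          exact Q.mul_mem_left _ (hq Q hQ'))
        exact hys Q hQ' (by simpa using sub_mem hmem hzQ)
    · refine ⟨y, hy, fun Q hQ => ?_⟩
      by_cases hQP : Q = P
      · exact hQP ▸ hxy
      · exact hys Q (Finset.mem_erase.2 ⟨hQP, hQ⟩)

/-- A nonzero ideal of finite projective dimension contains a nonzerodivisor in any given class modulo its square. -/
theorem exists_regular_add {I : Ideal R} (hI : I ≠ ⊥) {n : ℕ}
    (hpd : HasProjectiveDimensionLT (ModuleCat.of R I) (n + 1)) (x : R) :
    ∃ w ∈ I ^ 2, IsSMulRegular R (x + w) := by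
  classical
  obtain ⟨w, hw, hws⟩ := exists_add_notMem (I ^ 2) x (associatedPrimes.finite R R).toFinset
    (fun P hP => ((associatedPrimes.finite R R).mem_toFinset.1 hP).isPrime) fun P hP h =>
      haveI := ((associatedPrimes.finite R R).mem_toFinset.1 hP).isPrime
      not_le_associatedPrime hI hpd ((associatedPrimes.finite R R).mem_toFinset.1 hP)
        ((Ideal.IsPrime.pow_le_iff (hP := this) two_ne_zero).1 h)
  refine ⟨w, hw, isSMulRegular_iff_right_eq_zero_of_smul.2 fun z hz => by_contra fun hz0 => ?_⟩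
  obtain ⟨Q, hQ, hle⟩ := exists_le_isAssociatedPrime_of_isNoetherianRing R z hz0
  exact hws Q ((associatedPrimes.finite R R).mem_toFinset.2 hQ) (hle (Submodule.mem_colon_singleton.2 (by simpa using hz)))

theorem hasProjectiveDimensionLT_map_mk {I : Ideal R} {x : R} (hx : x ∈ I) (hreg : IsSMulRegular R x)
    (φ : I →ₗ[R] R ⧸ I) (hφ : φ ⟨x, hx⟩ = 1) {n : ℕ}
    (hpd : HasProjectiveDimensionLT (ModuleCat.of R I) (n + 1)) :
    HasProjectiveDimensionLT (ModuleCat.of (R ⧸ Ideal.span {x}) (I.map (Ideal.Quotient.mk (Ideal.span {x})))) (n + 1) := by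
  let X := Ideal.span {x}
  let π : R →+* R ⧸ X := Ideal.Quotient.mk X
  let P : Submodule R I := X • ⊤
  have hregI : IsSMulRegular I x := fun a b h => Subtype.ext (hreg (congrArg Subtype.val h))
  have hq := H05EGA4.hasProjectiveDimensionLT_quotObj hreg n I hregI hpd
  let x' : I := ⟨x, hx⟩
  let τ : (R ⧸ I) →ₗ[R] I ⧸ P := Submodule.liftQ I
    (LinearMap.toSpanSingleton R _ (Submodule.Quotient.mk x' : I ⧸ P)) fun z hz => by
      rw [LinearMap.mem_ker, LinearMap.toSpanSingleton_apply, ← Submodule.Quotient.mk_smul, Submodule.Quotient.mk_eq_zero]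
      exact (H05EGA4.mem_span_smul_top_iff x _).2 ⟨⟨z, hz⟩, trivial, Subtype.ext (mul_comm x z)⟩
  have hτ1 : τ 1 = Submodule.Quotient.mk x' := by
    show (1 : R) • (Submodule.Quotient.mk x' : I ⧸ P) = _
    exact one_smul R _
  let ψ : I →ₗ[R] I ⧸ P := P.mkQ - τ ∘ₗ φ
  let g : I →ₗ[R] I.map π :=
    { toFun := fun y => ⟨π y, Ideal.mem_map_of_mem π y.2⟩
      map_add' := fun a b => Subtype.ext (map_add π _ _)
      map_smul' := fun r a => Subtype.ext (map_mul π _ _) }
  have hg : Function.Surjective g := fun ⟨z, hz⟩ => by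
    obtain ⟨y, hy, rfl⟩ := (Ideal.mem_map_iff_of_surjective π Ideal.Quotient.mk_surjective).1 hz
    exact ⟨⟨y, hy⟩, rfl⟩
  have hgker : ∀ y : I, g y = 0 → ∃ t : R, y = t • x' := fun y hy => by
    obtain ⟨t, ht⟩ := Ideal.mem_span_singleton'.1 (Ideal.Quotient.eq_zero_iff_mem.1 (congrArg Subtype.val hy))
    exact ⟨t, Subtype.ext ht.symm⟩
  have hψ : LinearMap.ker g ≤ LinearMap.ker ψ := fun y hy => by
    obtain ⟨t, rfl⟩ := hgker y hy
    rw [LinearMap.mem_ker, map_smul]
    show t • (Submodule.Quotient.mk x' - τ (φ x')) = 0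
    rw [hφ, hτ1, sub_self, smul_zero]
  let i : I.map π →ₗ[R] I ⧸ P :=
    (Submodule.liftQ _ ψ hψ) ∘ₗ (LinearMap.quotKerEquivOfSurjective g hg).symm.toLinearMap
  have hP : P ≤ LinearMap.ker g := fun y hy => by
    obtain ⟨z, -, rfl⟩ := (H05EGA4.mem_span_smul_top_iff x _).1 hy
    exact Subtype.ext (Ideal.Quotient.eq_zero_iff_mem.2 (Ideal.mul_mem_right _ _ (Ideal.mem_span_singleton_self x)))
  let r : I ⧸ P →ₗ[R] I.map π := Submodule.liftQ P g hP
  have hri : ∀ z, r (i z) = z := fun z => by
    obtain ⟨y, rfl⟩ := hg z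
    have h1 : (LinearMap.quotKerEquivOfSurjective g hg).symm (g y) = Submodule.Quotient.mk y :=
      (LinearEquiv.symm_apply_eq _).2 rfl
    obtain ⟨t, ht⟩ := Submodule.Quotient.mk_surjective _ (φ y)
    have h2 : τ (φ y) = t • (Submodule.Quotient.mk x' : I ⧸ P) := by rw [← ht]; rfl
    show r (Submodule.liftQ _ ψ hψ ((LinearMap.quotKerEquivOfSurjective g hg).symm (g y))) = g y
    rw [h1]
    show r (Submodule.Quotient.mk y - τ (φ y)) = g y
    rw [h2, map_sub, map_smul]
    show g y - t • g x' = g y
    rw [show g x' = 0 from Subtype.ext (Ideal.Quotient.eq_zero_iff_mem.2 (Ideal.mem_span_singleton_self x)),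
      smul_zero, sub_zero]
  let ret : Retract (ModuleCat.of (R ⧸ X) (I.map π)) (H05EGA4.quotObj X I) :=
    { i := ModuleCat.ofHom (i.extendScalarsOfSurjective Ideal.Quotient.mk_surjective)
      r := ModuleCat.ofHom (r.extendScalarsOfSurjective Ideal.Quotient.mk_surjective)
      retract := ModuleCat.hom_ext (LinearMap.ext hri) }
  exact ret.hasProjectiveDimensionLT (n + 1)

theorem map_sq_eq_zero {A : Type u} [CommRing A] {I : Ideal A} (φ : I →ₗ[A] A ⧸ I) {w : A} (hw : w ∈ I ^ 2)
    (hwI : w ∈ I) : φ ⟨w, hwI⟩ = 0 := by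
  have hle : I • (⊤ : Submodule A I) ≤ LinearMap.ker φ := Submodule.smul_le.2 fun a ha z _ => by
    rw [LinearMap.mem_ker, map_smul]
    obtain ⟨t, ht⟩ := Ideal.Quotient.mk_surjective (φ z)
    rw [← ht]
    exact Ideal.Quotient.eq_zero_iff_mem.2 (I.mul_mem_right t ha)
  obtain ⟨z, hz, e⟩ := (show w ∈ Submodule.map I.subtype (I • ⊤) by
    rwa [Submodule.map_smul'', Submodule.map_top, Submodule.range_subtype, smul_eq_mul, ← pow_two])
  have : z = ⟨w, hwI⟩ := Subtype.ext e
  exact this ▸ hle hz

/-- Elements lifting a partial basis of the conormal module can be moved modulo the square to a regular sequence. -/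
theorem exists_isRegular : ∀ (r : ℕ) (R : Type u) [CommRing R] [IsNoetherianRing R] [IsLocalRing R] (I : Ideal R),
    I ≠ ⊤ → ∀ (n : ℕ), HasProjectiveDimensionLT (ModuleCat.of R I) (n + 1) →
    ∀ (v : Fin r → R) (hv : ∀ i, v i ∈ I) (φ : Fin r → (I →ₗ[R] R ⧸ I)),
      (∀ i j, φ i ⟨v j, hv j⟩ = if i = j then 1 else 0) →
      ∃ x : Fin r → R, (∀ i, x i - v i ∈ I ^ 2) ∧ RingTheory.Sequence.IsRegular R (List.ofFn x) := by
  classical
  intro r
  induction r with
  | zero =>
    intro R _ _ _ I _ n _ v _ φ _
    exact ⟨v, fun i => i.elim0, by simpa using RingTheory.Sequence.IsRegular.nil R R⟩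
  | succ r ih =>
    intro R _ _ _ I hI n hpd v hv φ hφ
    haveI : Nontrivial (R ⧸ I) := Ideal.Quotient.nontrivial_iff.2 hI
    have hI0 : I ≠ ⊥ := fun h => by
      have h1 : (⟨v 0, hv 0⟩ : I) = 0 := Subtype.ext (Submodule.mem_bot R |>.1 (h ▸ hv 0))
      have := hφ 0 0
      rw [h1, map_zero, if_pos rfl] at this
      exact zero_ne_one this
    obtain ⟨w, hw, hreg⟩ := exists_regular_add hI0 hpd (v 0)
    set x := v 0 + w with hxdef
    have hwI : w ∈ I := Ideal.pow_le_self two_ne_zero hw
    have hxI : x ∈ I := add_mem (hv 0) hwI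
    have hφx : ∀ i, φ i ⟨x, hxI⟩ = if i = 0 then 1 else 0 := fun i => by
      rw [← hφ i 0, show (⟨x, hxI⟩ : I) = ⟨v 0, hv 0⟩ + ⟨w, hwI⟩ from rfl, map_add,
        map_sq_eq_zero _ hw, add_zero]
    have hxm : x ∈ maximalIdeal R := le_maximalIdeal hI hxI
    haveI : Nontrivial (R ⧸ Ideal.span {x}) :=
      Ideal.Quotient.nontrivial_iff.2 fun h => (maximalIdeal.isMaximal R).ne_top
        (top_le_iff.1 (h ▸ (Ideal.span_singleton_le_iff_mem _).2 hxm))
    haveI : IsLocalRing (R ⧸ Ideal.span {x}) := IsLocalRing.of_surjective' _ Ideal.Quotient.mk_surjective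
    let π : R →+* R ⧸ Ideal.span {x} := Ideal.Quotient.mk _
    let I' := I.map π
    have hcomap : I'.comap π = I := by
      rw [Ideal.comap_map_of_surjective π Ideal.Quotient.mk_surjective, ← RingHom.ker_eq_comap_bot,
        Ideal.mk_ker]
      exact sup_eq_left.2 ((Ideal.span_singleton_le_iff_mem _).2 hxI)
    have hI' : I' ≠ ⊤ := fun h => hI (by rw [← hcomap, h, Ideal.comap_top])
    have hpd' := hasProjectiveDimensionLT_map_mk hxI hreg (φ 0) (by rw [hφx, if_pos rfl]) hpd
    let g : I →ₗ[R] I' :=
      { toFun := fun y => ⟨π y, Ideal.mem_map_of_mem π y.2⟩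
        map_add' := fun a b => Subtype.ext (map_add π _ _)
        map_smul' := fun r a => Subtype.ext (map_mul π _ _) }
    have hg : Function.Surjective g := fun ⟨z, hz⟩ => by
      obtain ⟨y, hy, rfl⟩ := (Ideal.mem_map_iff_of_surjective π Ideal.Quotient.mk_surjective).1 hz
      exact ⟨⟨y, hy⟩, rfl⟩
    let q : (R ⧸ I) →ₗ[R] (R ⧸ Ideal.span {x}) ⧸ I' := Submodule.liftQ I
      ((Algebra.linearMap R ((R ⧸ Ideal.span {x}) ⧸ I'))) fun z hz =>
        Ideal.Quotient.eq_zero_iff_mem.2 (Ideal.mem_map_of_mem π hz)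
    have hker : ∀ i : Fin r, LinearMap.ker g ≤ LinearMap.ker (q ∘ₗ φ i.succ) := fun i y hy => by
      obtain ⟨t, ht⟩ := Ideal.mem_span_singleton'.1 (Ideal.Quotient.eq_zero_iff_mem.1 (congrArg Subtype.val hy))
      rw [show y = t • (⟨x, hxI⟩ : I) from Subtype.ext ht.symm, LinearMap.mem_ker, map_smul]
      show t • q (φ i.succ ⟨x, hxI⟩) = 0
      rw [hφx, if_neg (Fin.succ_ne_zero i), map_zero, smul_zero]
    let φ' : Fin r → (I' →ₗ[R ⧸ Ideal.span {x}] (R ⧸ Ideal.span {x}) ⧸ I') := fun i =>
      (Submodule.liftQ _ (q ∘ₗ φ i.succ) (hker i) ∘ₗ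
        (LinearMap.quotKerEquivOfSurjective g hg).symm.toLinearMap).extendScalarsOfSurjective
        Ideal.Quotient.mk_surjective
    have hφ' : ∀ i j : Fin r, φ' i ⟨π (v j.succ), Ideal.mem_map_of_mem π (hv _)⟩ = if i = j then 1 else 0 := by
      intro i j
      have h1 : (LinearMap.quotKerEquivOfSurjective g hg).symm (g ⟨v j.succ, hv _⟩) =
          Submodule.Quotient.mk ⟨v j.succ, hv _⟩ := (LinearEquiv.symm_apply_eq _).2 rfl
      show Submodule.liftQ _ (q ∘ₗ φ i.succ) (hker i) ((LinearMap.quotKerEquivOfSurjective g hg).symm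
        (g ⟨v j.succ, hv _⟩)) = _
      rw [h1]
      show q (φ i.succ ⟨v j.succ, hv _⟩) = _
      rw [hφ]
      by_cases h : i = j
      · rw [if_pos h, if_pos (congrArg _ h)]; exact map_one (algebraMap R _)
      · rw [if_neg h, if_neg (fun hh => h (Fin.succ_injective _ hh)), map_zero]
    obtain ⟨x', hx', hreg'⟩ := ih _ I' hI' n hpd' (fun j => π (v j.succ))
      (fun j => Ideal.mem_map_of_mem π (hv _)) φ' hφ'
    have hlift : ∀ i : Fin r, ∃ y, y - v i.succ ∈ I ^ 2 ∧ π y = x' i := fun i => by
      have := hx' i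
      rw [← Ideal.map_pow] at this
      obtain ⟨z, hz, hzi⟩ := (Ideal.mem_map_iff_of_surjective π Ideal.Quotient.mk_surjective).1 this
      exact ⟨v i.succ + z, by simpa using hz, by rw [map_add, hzi]; ring⟩
    choose y hy hy' using hlift
    refine ⟨Fin.cons x y, Fin.cases (by simpa [hxdef] using hw) (fun i => by simpa using hy i), ?_⟩
    rw [List.ofFn_cons, RingTheory.Sequence.isRegular_cons_iff']
    refine ⟨hreg, ?_⟩
    rw [List.map_ofFn, show (Ideal.Quotient.mk (Ideal.span {x}) ∘ y) = x' from funext hy']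
    exact ((Submodule.quotEquivOfEq _ _ (by rw [← Submodule.ideal_span_singleton_smul, smul_eq_mul, Ideal.mul_top])
      ).extendScalarsOfSurjective Ideal.Quotient.mk_surjective |>.isRegular_congr _).2 hreg'

end Groth.Agent.H11Misc.Vasconcelos
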