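import Groth.Prelude.Def_BlowUp2
import Mathlib

/-!
# Functoriality of affine blowup algebras: localization and quotients
-/

set_option autoImplicit false
set_option linter.style.haveILetI false

noncomputable section

universe u

namespace Groth.Agent.H11Misc.AffineBlowUp

variable {A B : Type u} [CommRing A] [CommRing B] [Algebra A B] (I : Ideal A) (π : A)
  (ψ : BlowUp.affineAlgebra A I π →+* BlowUp.affineAlgebra B (I.map (algebraMap A B)) (algebraMap A B π))
  (hψ : ∀ x : BlowUp.affineAlgebra A I π,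
    ((ψ x : BlowUp.affineAlgebra B (I.map (algebraMap A B)) (algebraMap A B π)) : Localization.Away (algebraMap A B π)) =
      Localization.awayMap (algebraMap A B) π (x : Localization.Away π))

theorem awayMap_mk' (x : A) (n : ℕ) :
    Localization.awayMap (algebraMap A B) π
      (IsLocalization.mk' (Localization.Away π) x (⟨π ^ n, n, rfl⟩ : Submonoid.powers π)) =
    IsLocalization.mk' (Localization.Away (algebraMap A B π)) (algebraMap A B x)
      (⟨algebraMap A B π ^ n, n, rfl⟩ : Submonoid.powers (algebraMap A B π)) := by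
  rw [Localization.awayMap, IsLocalization.Away.map, IsLocalization.map_mk']
  congr 1
  exact Subtype.ext (map_pow _ _ _)

theorem awayMap_algebraMap (x : A) :
    Localization.awayMap (algebraMap A B) π (algebraMap A (Localization.Away π) x) =
      algebraMap B (Localization.Away (algebraMap A B π)) (algebraMap A B x) := by
  rw [Localization.awayMap, IsLocalization.Away.map, IsLocalization.map_eq]

include hψ in
theorem map_algebraMap (x : A) :
    ψ (algebraMap A _ x) = algebraMap B _ (algebraMap A B x) :=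
  Subtype.ext ((hψ _).trans (awayMap_algebraMap π x))

/-- The fraction `x / π`. -/
def frac (x : A) (hx : x ∈ I) : BlowUp.affineAlgebra A I π :=
  ⟨IsLocalization.mk' (Localization.Away π) x ⟨π, Submonoid.mem_powers π⟩,
    Algebra.subset_adjoin ⟨x, hx, rfl⟩⟩

include hψ in
theorem map_frac (x : A) (hx : x ∈ I) :
    ψ (frac I π x hx) = frac (I.map (algebraMap A B)) (algebraMap A B π) (algebraMap A B x)
      (Ideal.mem_map_of_mem _ hx) := by
  refine Subtype.ext ((hψ _).trans ?_)
  show Localization.awayMap (algebraMap A B) π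
      (IsLocalization.mk' (Localization.Away π) x ⟨π, Submonoid.mem_powers π⟩) = _
  rw [show (⟨π, Submonoid.mem_powers π⟩ : Submonoid.powers π) = ⟨π ^ 1, 1, rfl⟩ from Subtype.ext (pow_one π).symm,
    awayMap_mk']
  exact congrArg _ (Subtype.ext (pow_one _))

/-- Generators of the blowup algebra over the base. -/
theorem induction_on {P : BlowUp.affineAlgebra A I π → Prop} (z : BlowUp.affineAlgebra A I π)
    (halg : ∀ a, P (algebraMap A _ a)) (hfrac : ∀ x hx, P (frac I π x hx))
    (hadd : ∀ y z, P y → P z → P (y + z)) (hmul : ∀ y z, P y → P z → P (y * z)) : P z := by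
  obtain ⟨z, hz⟩ := z
  induction hz using Algebra.adjoin_induction with
  | mem y hy =>
    obtain ⟨x, hx, rfl⟩ := hy
    exact hfrac x hx
  | algebraMap r => exact halg r
  | add y z hy hz iy iz => exact hadd _ _ iy iz
  | mul y z hy hz iy iz => exact hmul _ _ iy iz

include hψ in
theorem ker_iff_scaled (x : BlowUp.affineAlgebra A I π) :
    ψ x = 0 ↔ ∃ (n : ℕ) (c : A), algebraMap A B c = 0 ∧
      algebraMap A (BlowUp.affineAlgebra A I π) π ^ n * x = algebraMap A _ c := by
  constructor
  · intro h
    obtain ⟨b, ⟨_, m, rfl⟩, hb⟩ := IsLocalization.exists_mk'_eq (Submonoid.powers π) (x : Localization.Away π)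
    have h0 : Localization.awayMap (algebraMap A B) π (x : Localization.Away π) = 0 := by
      rw [← hψ, h]; rfl
    rw [← hb, awayMap_mk', IsLocalization.mk'_eq_zero_iff] at h0
    obtain ⟨⟨_, k, rfl⟩, hk⟩ := h0
    refine ⟨k + m, π ^ k * b, by simpa using hk, Subtype.ext ?_⟩
    show (algebraMap A (Localization.Away π) π) ^ (k + m) * (x : Localization.Away π) =
      algebraMap A (Localization.Away π) (π ^ k * b)
    rw [← hb, pow_add, mul_assoc, map_mul, map_pow, ← map_pow _ π m]
    exact congrArg (_ * ·) (IsLocalization.mk'_spec' _ b (⟨π ^ m, m, rfl⟩ : Submonoid.powers π))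
  · rintro ⟨n, c, hc, hx⟩
    have h1 := congrArg ψ hx
    rw [map_mul, map_pow, map_algebraMap I π ψ hψ, map_algebraMap I π ψ hψ, hc, map_zero] at h1
    refine Subtype.ext ?_
    have h2 := congrArg Subtype.val h1
    simp only [MulMemClass.coe_mul, SubmonoidClass.coe_pow, ZeroMemClass.coe_zero] at h2
    exact ((IsLocalization.Away.algebraMap_isUnit (algebraMap A B π)).pow n).mul_right_eq_zero.1 h2

include hψ in
/-- Compatibility with closed immersions. -/
theorem quotient (hq : Function.Surjective (algebraMap A B)) :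
    Function.Surjective ψ ∧ ∀ x : BlowUp.affineAlgebra A I π, x ∈ RingHom.ker ψ ↔
      ∃ n : ℕ, algebraMap A (BlowUp.affineAlgebra A I π) π ^ n * x ∈
        (RingHom.ker (algebraMap A B)).map (algebraMap A (BlowUp.affineAlgebra A I π)) := by
  refine ⟨fun z => ?_, fun x => ⟨fun h => ?_, fun ⟨n, hn⟩ => ?_⟩⟩
  · induction z using induction_on with
    | halg b =>
      obtain ⟨a, rfl⟩ := hq b
      exact ⟨_, map_algebraMap I π ψ hψ a⟩
    | hfrac y hy =>
      obtain ⟨x, hx, rfl⟩ := (Ideal.mem_map_iff_of_surjective _ hq).1 hy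
      exact ⟨_, map_frac I π ψ hψ x hx⟩
    | hadd y z hy hz =>
      obtain ⟨a, rfl⟩ := hy
      obtain ⟨b, rfl⟩ := hz
      exact ⟨a + b, map_add ψ a b⟩
    | hmul y z hy hz =>
      obtain ⟨a, rfl⟩ := hy
      obtain ⟨b, rfl⟩ := hz
      exact ⟨a * b, map_mul ψ a b⟩
  · obtain ⟨n, c, hc, hx⟩ := (ker_iff_scaled I π ψ hψ x).1 h
    exact ⟨n, hx ▸ Ideal.mem_map_of_mem _ hc⟩
  · have h : (RingHom.ker (algebraMap A B)).map (algebraMap A (BlowUp.affineAlgebra A I π)) ≤ RingHom.ker ψ := by
      refine Ideal.map_le_iff_le_comap.2 fun c hc => ?_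
      show ψ (algebraMap A _ c) = 0
      rw [map_algebraMap I π ψ hψ, (hc : algebraMap A B c = 0), map_zero]
    have h1 : ψ (algebraMap A _ π ^ n * x) = 0 := h hn
    obtain ⟨m, c, hc, hx⟩ := (ker_iff_scaled I π ψ hψ _).1 h1
    exact (ker_iff_scaled I π ψ hψ x).2 ⟨m + n, c, hc, by rw [pow_add, mul_assoc, hx]⟩

variable (a : A) [IsLocalization.Away a B]

include hψ in
/-- Compatibility with localization. -/
theorem localization : letI := ψ.toAlgebra
    IsLocalization.Away (algebraMap A (BlowUp.affineAlgebra A I π) a)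
      (BlowUp.affineAlgebra B (I.map (algebraMap A B)) (algebraMap A B π)) := by
  letI := ψ.toAlgebra
  rw [IsLocalization.Away, isLocalization_iff]
  refine ⟨?_, ?_, ?_⟩
  · rintro ⟨_, k, rfl⟩
    show IsUnit (ψ ((algebraMap A _ a) ^ k))
    rw [map_pow, map_algebraMap I π ψ hψ]
    exact ((IsLocalization.Away.algebraMap_isUnit a).map (algebraMap B _)).pow k
  · intro z
    obtain ⟨k, x, hx⟩ : ∃ (k : ℕ) (x : BlowUp.affineAlgebra A I π), ψ (algebraMap A _ a) ^ k * z = ψ x := by
      induction z using induction_on with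
      | halg b =>
        obtain ⟨k, c, hc⟩ := IsLocalization.Away.surj a b
        refine ⟨k, algebraMap A _ c, ?_⟩
        rw [map_algebraMap I π ψ hψ, map_algebraMap I π ψ hψ, ← map_pow, ← map_mul, mul_comm, hc]
      | hfrac y hy =>
        obtain ⟨⟨⟨x, hx⟩, ⟨_, k, rfl⟩⟩, hc⟩ :=
          (IsLocalization.mem_map_algebraMap_iff (Submonoid.powers a) B).1 hy
        refine ⟨k, frac I π x hx, ?_⟩
        rw [map_frac I π ψ hψ, map_algebraMap I π ψ hψ, ← map_pow]
        refine Subtype.ext ?_
        show algebraMap B (Localization.Away (algebraMap A B π)) (algebraMap A B a ^ k) *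
          IsLocalization.mk' _ y _ = IsLocalization.mk' _ (algebraMap A B x) _
        rw [IsLocalization.mul_mk'_eq_mk'_of_mul]
        congr 1
        rw [mul_comm, ← map_pow]
        exact hc
      | hadd y z hy hz =>
        obtain ⟨k, u, hu⟩ := hy
        obtain ⟨l, v, hv⟩ := hz
        refine ⟨k + l, algebraMap A _ a ^ l * u + algebraMap A _ a ^ k * v, ?_⟩
        rw [map_add, map_mul, map_mul, map_pow, map_pow, ← hu, ← hv]
        ring
      | hmul y z hy hz =>
        obtain ⟨k, u, hu⟩ := hy
        obtain ⟨l, v, hv⟩ := hz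
        refine ⟨k + l, u * v, ?_⟩
        rw [map_mul, ← hu, ← hv]
        ring
    refine ⟨⟨x, ⟨_, k, rfl⟩⟩, ?_⟩
    show z * ψ ((algebraMap A _ a) ^ k) = ψ x
    rw [map_pow, mul_comm, hx]
  · intro x y h
    have h0 : ψ (x - y) = 0 := by rw [map_sub, sub_eq_zero]; exact h
    obtain ⟨b, ⟨_, m, rfl⟩, hb⟩ := IsLocalization.exists_mk'_eq (Submonoid.powers π) ((x - y : BlowUp.affineAlgebra A I π) : Localization.Away π)
    obtain ⟨n, c, hc, hxy⟩ := (ker_iff_scaled I π ψ hψ _).1 h0
    obtain ⟨k, hk⟩ := IsLocalization.Away.exists_of_eq (S := B) a (show algebraMap A B c = algebraMap A B 0 by rw [hc, map_zero])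
    rw [mul_zero] at hk
    refine ⟨⟨_, k, rfl⟩, ?_⟩
    have h1 : algebraMap A (BlowUp.affineAlgebra A I π) π ^ n * (algebraMap A _ a ^ k * (x - y)) = 0 := by
      rw [mul_left_comm, hxy, ← map_pow, ← map_mul, hk, map_zero]
    have h2 : algebraMap A (BlowUp.affineAlgebra A I π) a ^ k * (x - y) = 0 := by
      refine Subtype.ext ?_
      have h3 := congrArg Subtype.val h1
      simp only [MulMemClass.coe_mul, SubmonoidClass.coe_pow, ZeroMemClass.coe_zero] at h3 ⊢
      exact ((IsLocalization.Away.algebraMap_isUnit π).pow n).mul_right_eq_zero.1 h3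
    show algebraMap A _ a ^ k * x = algebraMap A _ a ^ k * y
    rwa [mul_sub, sub_eq_zero] at h2

end Groth.Agent.H11Misc.AffineBlowUp
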