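import Mathlib.RingTheory.Smooth.Basic
import Mathlib.RingTheory.Kaehler.Basic
import Mathlib.RingTheory.Ideal.Cotangent
import Mathlib.LinearAlgebra.SymmetricAlgebra.Basis
import Mathlib.RingTheory.MvPolynomial.Ideal
import Mathlib.RingTheory.TensorProduct.Finite
import Mathlib.RingTheory.FinitePresentation

/-!
# Augmented formally smooth algebras: the cotangent space at the augmentation
-/

set_option autoImplicit false
set_option linter.style.haveILetI false

noncomputable section

universe u v w

open TensorProduct

namespace Groth.Agent.H11Misc.Augmented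

variable {R : Type u} {C : Type v} {A : Type w} [CommRing R] [CommRing C] [CommRing A]
  [Algebra R C] [Algebra R A] [Algebra C A] [IsScalarTower R C A] (r : A →ₐ[C] C)

/-- The augmentation ideal. -/
abbrev aug : Ideal A := RingHom.ker r

theorem sub_mem_aug (a : A) : a - algebraMap C A (r a) ∈ aug r := by
  simp [RingHom.mem_ker]

theorem smul_cotangent (a : A) (p : (aug r).Cotangent) : a • p = r a • p := by
  obtain ⟨x, rfl⟩ := (aug r).toCotangent_surjective p
  rw [← algebraMap_smul A (r a) ((aug r).toCotangent x), ← map_smul, ← map_smul,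
    Ideal.toCotangent_eq, pow_two]
  simp only [Submodule.coe_smul, smul_eq_mul, ← sub_mul]
  exact Ideal.mul_mem_mul (sub_mem_aug r a) x.2

/-- The universal derivation to the cotangent space at the augmentation. -/
def augDer : Derivation R A (aug r).Cotangent :=
  Derivation.mk'
    { toFun := fun a => (aug r).toCotangent ⟨a - algebraMap C A (r a), sub_mem_aug r a⟩
      map_add' := fun a b => by
        rw [← map_add]
        refine congrArg _ (Subtype.ext ?_)
        simp only [map_add, Submodule.coe_add]
        abel
      map_smul' := fun c a => by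
        rw [RingHom.id_apply, ← algebraMap_smul A c ((aug r).toCotangent _), ← map_smul]
        refine congrArg _ (Subtype.ext ?_)
        simp only [Submodule.coe_smul, smul_eq_mul]
        have hrc : r (algebraMap R A c) = algebraMap R C c := by
          rw [IsScalarTower.algebraMap_apply R C A c, r.commutes]
          rfl
        rw [Algebra.smul_def, map_mul, map_mul, hrc, ← IsScalarTower.algebraMap_apply R C A c, mul_sub] }
    fun a b => by
      simp only [LinearMap.coe_mk, AddHom.coe_mk]
      rw [← map_smul, ← map_smul, ← map_add, Ideal.toCotangent_eq, pow_two]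
      simp only [Submodule.coe_smul, Submodule.coe_add, smul_eq_mul, map_mul]
      have : a * b - algebraMap C A (r a) * algebraMap C A (r b) -
          (a * (b - algebraMap C A (r b)) + b * (a - algebraMap C A (r a))) =
          -((a - algebraMap C A (r a)) * (b - algebraMap C A (r b))) := by ring
      rw [this]
      exact neg_mem (Ideal.mul_mem_mul (sub_mem_aug r a) (sub_mem_aug r b))

theorem augDer_of_mem (x : aug r) : augDer (R := R) r x.1 = (aug r).toCotangent x := by
  refine congrArg _ (Subtype.ext ?_)
  have h : r x.1 = 0 := x.2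
  simp [h]

/-- The cotangent space at the augmentation of a formally smooth algebra of finite type is finite
projective. -/
theorem finite_projective_cotangent [Algebra.FormallySmooth R A] [Algebra.FiniteType R A] :
    Module.Finite C (aug r).Cotangent ∧ Module.Projective C (aug r).Cotangent := by
  letI : Algebra A C := r.toRingHom.toAlgebra
  haveI : IsScalarTower A C (aug r).Cotangent := ⟨fun a c p => by
    rw [smul_cotangent r a, smul_smul]
    rfl⟩
  let ρ : C ⊗[A] Ω[A⁄R] →ₗ[C] (aug r).Cotangent :=
    (augDer r).liftKaehlerDifferential.liftBaseChange C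
  let d : aug r →+ C ⊗[A] Ω[A⁄R] :=
    { toFun := fun x => 1 ⊗ₜ KaehlerDifferential.D R A x.1
      map_zero' := by simp
      map_add' := fun x y => by simp [tmul_add] }
  have hkill : ∀ a : A, a ∈ aug r → ∀ ω : Ω[A⁄R], (1 : C) ⊗ₜ[A] (a • ω) = 0 := by
    intro a ha ω
    rw [← smul_tmul, Algebra.smul_def, RingHom.algebraMap_toAlgebra]
    have : r.toRingHom a = 0 := ha
    rw [this, zero_mul, zero_tmul]
  have hker : ∀ y : A, y ∈ (aug r) ^ 2 → (1 : C) ⊗ₜ[A] KaehlerDifferential.D R A y = 0 := by
    intro y hy
    rw [pow_two] at hy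
    refine Submodule.mul_induction_on hy (fun a ha b hb => ?_) (fun a b ha hb => ?_)
    · rw [Derivation.leibniz, tmul_add, hkill a ha, hkill b hb, add_zero]
    · rw [map_add, tmul_add, ha, hb, add_zero]
  have hsmul : ∀ (a : A) (x : aug r), d (a • x) = r a • d x := by
    intro a x
    simp only [d, AddMonoidHom.coe_mk, ZeroHom.coe_mk, Submodule.coe_smul, smul_eq_mul]
    rw [Derivation.leibniz, tmul_add, hkill x.1 x.2, add_zero, ← smul_tmul, smul_tmul']
    congr 1
  let sec : (aug r).Cotangent → aug r := fun p => ((aug r).toCotangent_surjective p).choose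
  have hsec : ∀ p, (aug r).toCotangent (sec p) = p :=
    fun p => ((aug r).toCotangent_surjective p).choose_spec
  let ι : (aug r).Cotangent →ₗ[C] C ⊗[A] Ω[A⁄R] :=
    { toFun := fun p => d (sec p)
      map_add' := fun p q => by
        rw [← map_add, ← sub_eq_zero, ← map_sub]
        exact hker _ (((aug r).toCotangent_eq (x := sec (p + q)) (y := sec p + sec q)).1
          (by rw [map_add, hsec, hsec, hsec]))
      map_smul' := fun c p => by
        have h1 : c • d (sec p) = d (algebraMap C A c • sec p) := by
          rw [hsmul, r.commutes]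
          rfl
        rw [RingHom.id_apply, h1, ← sub_eq_zero, ← map_sub]
        exact hker _ (((aug r).toCotangent_eq (x := sec (c • p)) (y := algebraMap C A c • sec p)).1
          (by rw [map_smul, hsec, hsec, algebraMap_smul])) }
  have hρι : ρ ∘ₗ ι = LinearMap.id := by
    refine LinearMap.ext fun p => ?_
    simp only [LinearMap.coe_comp, Function.comp_apply, LinearMap.id_apply, ι, d, ρ, LinearMap.coe_mk,
      AddHom.coe_mk, AddMonoidHom.coe_mk, ZeroHom.coe_mk, LinearMap.liftBaseChange_tmul, one_smul,
      Derivation.liftKaehlerDifferential_comp_D]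
    rw [augDer_of_mem, hsec]
  refine ⟨Module.Finite.of_surjective ρ fun p => ⟨ι p, LinearMap.congr_fun hρι p⟩, ?_⟩
  exact Module.Projective.of_split ι ρ hρι

section sym

variable {P : Type w} [AddCommGroup P] [Module C P]

/-- The augmentation ideal of the symmetric algebra is separated for a finite projective module. -/
theorem eq_zero_of_forall_mem_pow [Module.Finite C P] [Module.Projective C P]
    (x : SymmetricAlgebra C P)
    (hx : ∀ k : ℕ, x ∈ (RingHom.ker (SymmetricAlgebra.algebraMapInv (R := C) (M := P))) ^ k) : x = 0 := by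
  classical
  obtain ⟨m, f, g, -, -, hfg⟩ := Module.Finite.exists_comp_eq_id_of_projective C P
  let i : SymmetricAlgebra C P →ₐ[C] MvPolynomial (Fin m) C :=
    SymmetricAlgebra.lift ((Pi.basisFun C (Fin m)).constr C MvPolynomial.X ∘ₗ g)
  let p : MvPolynomial (Fin m) C →ₐ[C] SymmetricAlgebra C P :=
    MvPolynomial.aeval fun j => SymmetricAlgebra.ι C P (f (Pi.basisFun C (Fin m) j))
  have hpi : p.comp i = AlgHom.id C _ := by
    have h1 : p.toLinearMap ∘ₗ ((Pi.basisFun C (Fin m)).constr C MvPolynomial.X) =
        SymmetricAlgebra.ι C P ∘ₗ f := (Pi.basisFun C (Fin m)).ext fun j => by simp [p]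
    refine SymmetricAlgebra.algHom_ext (LinearMap.ext fun q => ?_)
    have h2 := LinearMap.congr_fun h1 (g q)
    simp only [LinearMap.coe_comp, Function.comp_apply, AlgHom.toLinearMap_apply] at h2
    change p (i (SymmetricAlgebra.ι C P q)) = SymmetricAlgebra.ι C P q
    simp only [i, SymmetricAlgebra.lift_ι_apply, LinearMap.coe_comp, Function.comp_apply]
    rw [h2, show f (g q) = q from LinearMap.congr_fun hfg q]
  have hmap : (RingHom.ker (SymmetricAlgebra.algebraMapInv (R := C) (M := P))) ≤
      (MvPolynomial.idealOfVars (Fin m) C).comap i.toRingHom := by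
    intro y hy
    have key : ∀ z : SymmetricAlgebra C P, i z - algebraMap C _ (SymmetricAlgebra.algebraMapInv z) ∈
        MvPolynomial.idealOfVars (Fin m) C := by
      intro z
      induction z using SymmetricAlgebra.induction with
      | algebraMap c => simp
      | ι q =>
        rw [SymmetricAlgebra.algebraMapInv_ι, map_zero, sub_zero]
        simp only [i, SymmetricAlgebra.lift_ι_apply, LinearMap.coe_comp, Function.comp_apply]
        rw [Module.Basis.constr_apply_fintype]
        exact sum_mem fun j _ => by
          rw [MvPolynomial.smul_eq_C_mul]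
          exact Ideal.mul_mem_left _ _ (Ideal.subset_span ⟨j, rfl⟩)
      | mul a b ha hb =>
        rw [map_mul, map_mul, map_mul]
        have : i a * i b - algebraMap C _ (SymmetricAlgebra.algebraMapInv a) *
            algebraMap C _ (SymmetricAlgebra.algebraMapInv b) =
            (i a - algebraMap C _ (SymmetricAlgebra.algebraMapInv a)) * i b +
              algebraMap C _ (SymmetricAlgebra.algebraMapInv a) *
                (i b - algebraMap C _ (SymmetricAlgebra.algebraMapInv b)) := by ring
        rw [this]
        exact add_mem (Ideal.mul_mem_right _ _ ha) (Ideal.mul_mem_left _ _ hb)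
      | add a b ha hb =>
        rw [map_add, map_add, map_add, add_sub_add_comm]
        exact add_mem ha hb
    have h := key y
    rw [show SymmetricAlgebra.algebraMapInv y = 0 from hy, map_zero, sub_zero] at h
    exact h
  have h0 : i x = 0 := by
    refine MvPolynomial.ext _ _ fun e => ?_
    have hm : i x ∈ MvPolynomial.idealOfVars (Fin m) C ^ (e.degree + 1) := by
      have h1 := Ideal.le_comap_pow i.toRingHom (e.degree + 1) (Ideal.pow_right_mono hmap _ (hx (e.degree + 1)))
      exact h1
    rw [MvPolynomial.coeff_zero]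
    exact (MvPolynomial.mem_pow_idealOfVars_iff' _ _).1 hm e (Nat.lt_succ_self _)
  have := DFunLike.congr_fun hpi x
  rw [AlgHom.comp_apply, h0, map_zero] at this
  exact this.symm

/-- Injectivity: an algebra map out of a symmetric algebra onto a formally smooth algebra which is an
isomorphism to first order at the augmentation is injective. -/
theorem injective_lift [Module.Finite C P] [Module.Projective C P] [Algebra.FormallySmooth R A]
    (φ : P →ₗ[C] A) (hφ : ∀ p, φ p ∈ aug r) (hφ' : ∀ p, φ p ∈ (aug r) ^ 2 → p = 0)
    (hsurj : Function.Surjective (SymmetricAlgebra.lift φ)) :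
    Function.Injective (SymmetricAlgebra.lift φ) := by
  classical
  letI : Algebra R (SymmetricAlgebra C P) :=
    ((algebraMap C (SymmetricAlgebra C P)).comp (algebraMap R C)).toAlgebra
  haveI : IsScalarTower R C (SymmetricAlgebra C P) := IsScalarTower.of_algebraMap_eq' rfl
  let Φ := SymmetricAlgebra.lift φ
  let K : Ideal (SymmetricAlgebra C P) := RingHom.ker Φ
  let Sp : Ideal (SymmetricAlgebra C P) := RingHom.ker (SymmetricAlgebra.algebraMapInv (R := C) (M := P))
  have haugeq : r.comp Φ = SymmetricAlgebra.algebraMapInv := by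
    refine SymmetricAlgebra.algHom_ext (LinearMap.ext fun p => ?_)
    simp [Φ, SymmetricAlgebra.algebraMapInv_ι, show r (φ p) = 0 from hφ p]
  have hSp : ∀ y ∈ Sp, Φ y ∈ aug r := fun y hy => by
    show r (Φ y) = 0
    rw [← AlgHom.comp_apply, haugeq]
    exact hy
  have hdecomp : ∀ y : SymmetricAlgebra C P, ∃ (c : C) (p : P),
      y - (algebraMap C _ c + SymmetricAlgebra.ι C P p) ∈ Sp ^ 2 := by
    intro y
    induction y using SymmetricAlgebra.induction with
    | algebraMap c => exact ⟨c, 0, by simp⟩
    | ι p => exact ⟨0, p, by simp⟩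
    | mul a b ha hb =>
      obtain ⟨c, p, hcp⟩ := ha
      obtain ⟨e, q, heq⟩ := hb
      refine ⟨c * e, c • q + e • p, ?_⟩
      have hι : ∀ q, SymmetricAlgebra.ι C P q ∈ Sp := fun q => SymmetricAlgebra.algebraMapInv_ι q
      have : a * b - (algebraMap C _ (c * e) + SymmetricAlgebra.ι C P (c • q + e • p)) =
          (a - (algebraMap C _ c + SymmetricAlgebra.ι C P p)) * b +
            (algebraMap C _ c + SymmetricAlgebra.ι C P p) *
              (b - (algebraMap C _ e + SymmetricAlgebra.ι C P q)) +
            SymmetricAlgebra.ι C P p * SymmetricAlgebra.ι C P q := by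
        rw [map_mul, map_add, map_smul, map_smul, Algebra.smul_def, Algebra.smul_def]
        ring
      rw [this]
      exact add_mem (add_mem (Ideal.mul_mem_right _ _ hcp) (Ideal.mul_mem_left _ _ heq))
        (pow_two Sp ▸ Ideal.mul_mem_mul (hι p) (hι q))
    | add a b ha hb =>
      obtain ⟨c, p, hcp⟩ := ha
      obtain ⟨e, q, heq⟩ := hb
      refine ⟨c + e, p + q, ?_⟩
      rw [map_add, map_add, add_add_add_comm, add_sub_add_comm]
      exact add_mem hcp heq
  have hK2 : K ≤ Sp ^ 2 := by
    intro y hy
    obtain ⟨c, p, hcp⟩ := hdecomp y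
    have h1 : Φ (y - (algebraMap C _ c + SymmetricAlgebra.ι C P p)) ∈ (aug r) ^ 2 := by
      have : (Sp ^ 2).map Φ.toRingHom ≤ (aug r) ^ 2 := by
        rw [Ideal.map_pow]
        exact Ideal.pow_right_mono (Ideal.map_le_iff_le_comap.2 hSp) 2
      exact this (Ideal.mem_map_of_mem _ hcp)
    rw [map_sub, show Φ y = 0 from hy, zero_sub, map_add, AlgHom.commutes] at h1
    simp only [Φ, SymmetricAlgebra.lift_ι_apply] at h1
    have h2 : r (-(algebraMap C A c + φ p)) = 0 :=
      Ideal.pow_le_self (I := aug r) two_ne_zero h1
    have hc : c = 0 := by simpa [show r (φ p) = 0 from hφ p] using h2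
    subst hc
    rw [map_zero, zero_add, neg_mem_iff] at h1
    rw [hφ' p h1] at hcp
    simpa using hcp
  -- a lift of the identity
  let Q := SymmetricAlgebra C P ⧸ K ^ 2
  let π : Q →ₐ[R] A :=
    (Ideal.Quotient.liftₐ (K ^ 2) Φ fun a ha => Ideal.pow_le_self (I := K) two_ne_zero ha).restrictScalars R
  have hπ : Function.Surjective π := fun a => by
    obtain ⟨y, rfl⟩ := hsurj a
    exact ⟨Ideal.Quotient.mk _ y, rfl⟩
  have hπker : IsNilpotent (RingHom.ker (π : Q →+* A)) := by
    refine ⟨2, ?_⟩
    rw [Ideal.zero_eq_bot, eq_bot_iff]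
    have : RingHom.ker (π : Q →+* A) ≤ K.map (Ideal.Quotient.mk (K ^ 2)) := by
      intro z hz
      obtain ⟨y, rfl⟩ := Ideal.Quotient.mk_surjective z
      exact Ideal.mem_map_of_mem _ (show Φ y = 0 from hz)
    refine (Ideal.pow_right_mono this 2).trans ?_
    rw [← Ideal.map_pow, Ideal.map_quotient_self]
  let σ : A →ₐ[R] Q := Algebra.FormallySmooth.liftOfSurjective (AlgHom.id R A) π hπ hπker
  have hσ : ∀ a, π (σ a) = a := fun a => Algebra.FormallySmooth.liftOfSurjective_apply _ π hπ hπker a
  -- the kernel is killed modulo the augmentation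
  have hKS : K ≤ Sp * K := by
    intro x hx
    let J : Ideal Q := (Sp * K).map (Ideal.Quotient.mk (K ^ 2))
    let D : SymmetricAlgebra C P → Q := fun y => Ideal.Quotient.mk (K ^ 2) y - σ (Φ y)
    have hD : ∀ y, ∃ k ∈ K, D y = Ideal.Quotient.mk (K ^ 2) k := by
      intro y
      obtain ⟨k, hk⟩ := Ideal.Quotient.mk_surjective (D y)
      refine ⟨k, ?_, hk.symm⟩
      have : π (D y) = 0 := by
        simp only [D, map_sub, hσ]
        exact sub_self _
      rw [← hk] at this
      exact this
    have hDmul : ∀ a ∈ Sp, ∀ b ∈ Sp, D (a * b) ∈ J := by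
      intro a ha b hb
      obtain ⟨ka, hka, ea⟩ := hD a
      obtain ⟨kb, hkb, eb⟩ := hD b
      have : D (a * b) = Ideal.Quotient.mk (K ^ 2) (a * kb + b * ka - ka * kb) := by
        simp only [map_sub, map_add, map_mul, ← ea, ← eb, D]
        ring
      rw [this]
      refine Ideal.mem_map_of_mem _ (sub_mem (add_mem (Ideal.mul_mem_mul ha hkb) (Ideal.mul_mem_mul hb hka)) ?_)
      exact Ideal.mul_mem_mul (Ideal.pow_le_self two_ne_zero (hK2 hka)) hkb
    have hDsq : ∀ y ∈ Sp ^ 2, D y ∈ J := by
      intro y hy
      rw [pow_two] at hy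
      refine Submodule.mul_induction_on hy hDmul fun a b ha hb => ?_
      have : D (a + b) = D a + D b := by simp only [D, map_add]; ring
      rw [this]
      exact add_mem ha hb
    have hx' := hDsq x (hK2 hx)
    simp only [D, show Φ x = 0 from hx, map_zero, sub_zero] at hx'
    have h3 : x ∈ Sp * K ⊔ K ^ 2 := by
      have := Ideal.mem_comap.2 hx'
      rwa [Ideal.comap_map_of_surjective _ Ideal.Quotient.mk_surjective, ← RingHom.ker_eq_comap_bot,
        Ideal.mk_ker] at this
    refine SetLike.le_def.1 (sup_le le_rfl ?_) h3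
    rw [pow_two]
    exact Ideal.mul_mono_left (hK2.trans (Ideal.pow_le_self two_ne_zero))
  have hpow : ∀ k : ℕ, K ≤ Sp ^ k := by
    intro k
    induction k with
    | zero => simp
    | succ k ih => exact hKS.trans ((Ideal.mul_mono_right ih).trans (pow_succ' Sp k).ge)
  refine (injective_iff_map_eq_zero _).2 fun x hx => eq_zero_of_forall_mem_pow x fun k => hpow k hx

end sym

end Groth.Agent.H11Misc.Augmented
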