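import Groth.Prelude.Def_GrLC
import Mathlib

/-!
# High pieces of a ℤ-graded ring with finitely generated positive ideal
-/

set_option autoImplicit false
set_option linter.style.haveILetI false

noncomputable section

universe u

open DirectSum

namespace Groth.Agent.H11Misc.GrRingPieces

variable {R A : Type u} [CommRing R] [CommRing A] [Algebra R A]
  (𝒜 : ℤ → Submodule R A) [GradedAlgebra 𝒜]
  {p : ℕ} (f : Fin p → A) (deg : Fin p → ℤ) (hdeg : ∀ i, 0 < deg i) (hf : ∀ i, f i ∈ 𝒜 (deg i))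
  (hgen : Ideal.span {a : A | ∃ n : ℤ, 0 < n ∧ a ∈ 𝒜 n} = Ideal.span (Set.range f))
  (d : ℤ) (hd : 0 < d) (hdvd : ∀ i, deg i ∣ d)

include hf hgen in
theorem exists_decomp {m : ℤ} (hm : 0 < m) {c : A} (hc : c ∈ 𝒜 m) :
    ∃ g : Fin p → A, (∀ j, g j ∈ 𝒜 (m - deg j)) ∧ c = ∑ j, g j * f j := by
  classical
  have h : c ∈ Ideal.span (Set.range f) := hgen ▸ Ideal.subset_span ⟨m, hm, hc⟩
  obtain ⟨a, ha⟩ := Ideal.mem_span_range_iff_exists_fun.1 h
  refine ⟨fun j => decompose 𝒜 (a j) (m - deg j), fun j => SetLike.coe_mem _, ?_⟩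
  conv_lhs => rw [← decompose_of_mem_same 𝒜 hc]
  conv_lhs => rw [← ha, decompose_sum, DFinsupp.finsetSum_apply, AddSubmonoidClass.coe_finsetSum]
  refine Finset.sum_congr rfl fun j _ => ?_
  have := coe_decompose_mul_add_of_right_mem 𝒜 (a := a j) (i := m - deg j) (hf j)
  rwa [sub_add_cancel] at this

theorem mem_prod_pow (e : Fin p → ℕ) (hf : ∀ i, f i ∈ 𝒜 (deg i)) :
    ∏ i, f i ^ e i ∈ 𝒜 (∑ i, (e i : ℤ) * deg i) := by
  have h := SetLike.prod_pow_mem_graded 𝒜 (F := Finset.univ) deg f e (fun i _ => hf i)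
  simpa [smul_eq_mul] using h

include hdeg hf hgen hd hdvd in
theorem piece_eq (N : ℤ) (hN : d * p - ∑ i, deg i < N) : 𝒜 N = 𝒜 d * 𝒜 (N - d) := by
  classical
  refine le_antisymm (fun x hx => ?_) (Submodule.mul_le.2 fun a ha b hb => by
    have := SetLike.mul_mem_graded ha hb
    rwa [add_sub_cancel] at this)
  have hq : ∀ i, ∃ q : ℕ, (q : ℤ) * deg i = d ∧ 1 ≤ q := fun i => by
    obtain ⟨c, hc⟩ := hdvd i
    have hc0 : 0 < c := by
      by_contra h
      nlinarith [hdeg i]
    refine ⟨c.toNat, ?_, by omega⟩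
    rw [Int.toNat_of_nonneg hc0.le, hc, mul_comm]
  choose q hq hq1 using hq
  suffices h : ∀ (t : ℕ) (e : Fin p → ℕ), ∑ i, (q i - e i) ≤ t → ∀ c ∈ 𝒜 (N - ∑ i, (e i : ℤ) * deg i),
      c * ∏ i, f i ^ e i ∈ 𝒜 d * 𝒜 (N - d) by
    simpa using h _ 0 le_rfl x (by simpa using hx)
  have hbig : ∀ (e : Fin p → ℕ) (i₀ : Fin p), q i₀ ≤ e i₀ → ∀ c ∈ 𝒜 (N - ∑ i, (e i : ℤ) * deg i),
      c * ∏ i, f i ^ e i ∈ 𝒜 d * 𝒜 (N - d) := by
    intro e i₀ hi₀ c hc
    let e' : Fin p → ℕ := Function.update e i₀ (e i₀ - q i₀)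
    have he : ∀ i, e i = e' i + (if i = i₀ then q i₀ else 0) := fun i => by
      by_cases h : i = i₀
      · subst h; simp [e']; omega
      · simp [e', h]
    have hprod : ∏ i, f i ^ e i = f i₀ ^ q i₀ * ∏ i, f i ^ e' i := by
      simp_rw [he, pow_add]
      rw [Finset.prod_mul_distrib, mul_comm]
      simp [Finset.prod_ite_eq']
    rw [hprod, mul_left_comm]
    refine Submodule.mul_mem_mul ?_ ?_
    · have := SetLike.pow_mem_graded (q i₀) (hf i₀)
      rwa [nsmul_eq_mul, hq i₀] at this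
    · have := SetLike.mul_mem_graded hc (mem_prod_pow 𝒜 f deg e' hf)
      have hsum : ∑ i, (e i : ℤ) * deg i = ∑ i, (e' i : ℤ) * deg i + d := by
        simp_rw [he, Nat.cast_add, add_mul]
        rw [Finset.sum_add_distrib]
        simp [hq i₀]
      rwa [hsum, sub_add_eq_sub_sub, sub_right_comm, sub_add_cancel] at this
  intro t
  induction t with
  | zero =>
    intro e he c hc
    rcases Nat.eq_zero_or_pos p with rfl | hp
    · obtain ⟨g, -, rfl⟩ := exists_decomp 𝒜 f deg hf hgen (m := N - ∑ i, (e i : ℤ) * deg i)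
        (by simpa using hN) hc
      simp
    · refine hbig e ⟨0, hp⟩ ?_ c hc
      have := Finset.single_le_sum (f := fun i => q i - e i) (fun _ _ => Nat.zero_le _) (Finset.mem_univ ⟨0, hp⟩)
      omega
  | succ t ih =>
    intro e he c hc
    by_cases hbig' : ∃ i₀, q i₀ ≤ e i₀
    · obtain ⟨i₀, hi₀⟩ := hbig'
      exact hbig e i₀ hi₀ c hc
    · simp only [not_exists, not_le] at hbig'
      have hm : 0 < N - ∑ i, (e i : ℤ) * deg i := by
        have : ∀ i, (e i : ℤ) * deg i ≤ d - deg i := fun i => by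
          rw [← hq i]
          have h1 : (e i : ℤ) + 1 ≤ q i := by exact_mod_cast hbig' i
          nlinarith [hdeg i]
        have h2 := Finset.sum_le_sum (s := Finset.univ) fun i _ => this i
        rw [Finset.sum_sub_distrib, Finset.sum_const, Finset.card_univ, Fintype.card_fin, nsmul_eq_mul,
          mul_comm] at h2
        omega
      obtain ⟨g, hg, rfl⟩ := exists_decomp 𝒜 f deg hf hgen hm hc
      rw [Finset.sum_mul]
      refine Submodule.sum_mem _ fun j _ => ?_
      have hlt : ∑ i, (q i - (Function.update e j (e j + 1)) i) < ∑ i, (q i - e i) := by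
        refine Finset.sum_lt_sum (fun i _ => ?_) ⟨j, Finset.mem_univ _, ?_⟩
        · by_cases h : i = j
          · subst h; simp; omega
          · simp [h]
        · have := hbig' j
          simp; omega
      have := ih (Function.update e j (e j + 1)) (by omega) (g j) (by
        have h := hg j
        refine Eq.mpr (congrArg (g j ∈ 𝒜 ·) ?_) h
        rw [sub_sub]
        congr 1
        simp only [Function.update_apply]
        rw [← Finset.add_sum_erase _ _ (Finset.mem_univ j), ← Finset.add_sum_erase _ _ (Finset.mem_univ j)]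
        simp only [↓reduceIte, Nat.cast_add, Nat.cast_one]
        rw [Finset.sum_congr rfl (fun i hi => by rw [if_neg (Finset.ne_of_mem_erase hi)])]
        ring)
      convert! this using 1
      rw [← Finset.mul_prod_erase _ _ (Finset.mem_univ j), ← Finset.mul_prod_erase _ _ (Finset.mem_univ j)]
      rw [Finset.prod_congr rfl (show ∀ i ∈ Finset.univ.erase j, f i ^ Function.update e j (e j + 1) i = f i ^ e i from
        fun i hi => by rw [Function.update_of_ne (Finset.ne_of_mem_erase hi)]), Function.update_self, pow_succ]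
      ring

include hdeg hf hgen hd hdvd in
theorem piece_le_pow (k : ℕ) {n : ℤ} (hn : d * k + (d * p - ∑ i, deg i) < n) :
    𝒜 n ≤ 𝒜 d ^ k * 𝒜 (n - d * k) := by
  induction k generalizing n with
  | zero => simp
  | succ k ih =>
    have hk : d * (k : ℤ) ≤ d * ((k + 1 : ℕ) : ℤ) := by push_cast; nlinarith
    refine (ih (by omega)).trans ?_
    rw [piece_eq 𝒜 f deg hdeg hf hgen d hd hdvd (n - d * k) (by push_cast at hn ⊢; nlinarith), pow_succ, mul_assoc]
    refine le_of_eq ?_
    push_cast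
    ring_nf

theorem pow_le_ideal_pow (hgen : Ideal.span {a : A | ∃ n : ℤ, 0 < n ∧ a ∈ 𝒜 n} = Ideal.span (Set.range f))
    (hd : 0 < d) (n : ℕ) : ∀ r ∈ 𝒜 d ^ n, r ∈ Ideal.span (Set.range f) ^ n := by
  induction n with
  | zero => intro r _; rw [pow_zero, Ideal.one_eq_top]; trivial
  | succ n ih =>
    intro r hr
    rw [pow_succ] at hr
    induction hr using Submodule.mul_induction_on' with
    | mem_mul_mem a ha b hb =>
      rw [pow_succ]
      exact Ideal.mul_mem_mul (ih a ha) (hgen ▸ Ideal.subset_span ⟨d, hd, hb⟩)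
    | add a _ b _ h1 h2 => exact add_mem h1 h2

include hdeg hf hgen hd hdvd in
theorem tfae {M : Type u} [AddCommGroup M] [Module A M] (x : M) :
    [x ∈ GrLC.gam (Ideal.span (Set.range f)) M,
     ∃ n₀ : ℕ, ∀ n : ℕ, n₀ ≤ n → ∀ r ∈ (𝒜 d) ^ n, r • x = 0,
     ∃ s : ℤ, ∀ n : ℤ, s ≤ n → ∀ r ∈ 𝒜 n, r • x = 0].TFAE := by
  tfae_have 1 → 2 := by
    rintro ⟨k, hk⟩
    exact ⟨k, fun n hn r hr => hk r (Ideal.pow_le_pow_right hn (pow_le_ideal_pow 𝒜 f d hgen hd n r hr))⟩
  tfae_have 2 → 3 := by
    rintro ⟨k, hk⟩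
    refine ⟨d * k + (d * p - ∑ i, deg i) + 1, fun n hn r hr => ?_⟩
    have := piece_le_pow 𝒜 f deg hdeg hf hgen d hd hdvd k (by omega) hr
    clear hr
    induction this using Submodule.mul_induction_on' with
    | mem_mul_mem a ha b hb => rw [mul_comm, mul_smul, hk k le_rfl a ha, smul_zero]
    | add a _ b _ h1 h2 => rw [add_smul, h1, h2, add_zero]
  tfae_have 3 → 1 := by
    rintro ⟨s, hs⟩
    refine ⟨s.toNat, fun r hr => ?_⟩
    have hmem : ∀ (k : ℕ) (r : A), r ∈ Ideal.span (Set.range f) ^ k → ∀ (y : A) (m : ℤ), y ∈ 𝒜 m →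
        s ≤ m + k → (y * r) • x = 0 := by
      intro k
      induction k with
      | zero =>
        intro r _ y m hy hm
        rw [mul_comm, mul_smul, hs m (by simpa using hm) y hy, smul_zero]
      | succ k ih =>
        intro r hr y m hy hm
        rw [pow_succ'] at hr
        induction hr using Submodule.mul_induction_on' with
        | mem_mul_mem a ha b hb =>
          obtain ⟨c, rfl⟩ := Ideal.mem_span_range_iff_exists_fun.1 ha
          rw [Finset.sum_mul, Finset.mul_sum, Finset.sum_smul]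
          refine Finset.sum_eq_zero fun j _ => ?_
          rw [show y * (c j * f j * b) = y * f j * (c j * b) by ring]
          refine ih (c j * b) (Ideal.mul_mem_left _ _ hb) (y * f j) _ (SetLike.mul_mem_graded hy (hf j)) ?_
          have := hdeg j
          push_cast at hm
          omega
        | add a _ b _ h1 h2 => rw [mul_add, add_smul, h1, h2, add_zero]
    simpa using hmem s.toNat r hr 1 0 SetLike.GradedOne.one_mem (by omega)
  tfae_finish

end Groth.Agent.H11Misc.GrRingPieces
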