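import Mathlib

/-!
# Finitely generated projective graded modules over a connected graded algebra are free
-/

set_option autoImplicit false
set_option linter.style.haveILetI false
set_option linter.unusedSectionVars false

noncomputable section

universe u

open DirectSum

namespace Groth.Agent.H11Misc.GradedFree

variable {k : Type u} [Field k] {R : Type u} [CommRing R] [Algebra k R]
  {σ : Type u} [SetLike σ R] [AddSubmonoidClass σ R] (𝒜 : ℤ → σ) [GradedRing 𝒜]
  {M : Type u} [AddCommGroup M] [Module R M]
  {τ : Type u} [SetLike τ M] [AddSubmonoidClass τ M] (ℳ : ℤ → τ) [DirectSum.Decomposition ℳ]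
  [SetLike.GradedSMul 𝒜 ℳ]

/-- The ideal generated by the elements of positive degree. -/
def irr : Ideal R := Ideal.span {r | ∃ i : ℤ, 0 < i ∧ r ∈ 𝒜 i}

theorem decompose_smul {i : ℤ} {a : R} (ha : a ∈ 𝒜 i) (y : M) (n : ℤ) :
    (decompose ℳ (a • y) n : M) = a • (decompose ℳ y (n - i) : M) := by
  classical
  induction y using DirectSum.Decomposition.inductionOn ℳ with
  | zero => simp
  | @homogeneous j y =>
    have hay : a • (y : M) ∈ ℳ (i + j) := SetLike.GradedSMul.smul_mem ha y.2
    by_cases hn : n = i + j
    · subst hn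
      rw [decompose_of_mem_same ℳ hay, add_sub_cancel_left, decompose_of_mem_same ℳ y.2]
    · rw [decompose_of_mem_ne ℳ hay (Ne.symm hn), decompose_of_mem_ne ℳ y.2 (by omega), smul_zero]
  | add y z h1 h2 => simp only [smul_add, decompose_add, DirectSum.add_apply, AddMemClass.coe_add, h1, h2]

include 𝒜 in
theorem decompose_mem_span {X : Set M} (hX : ∀ x ∈ X, ∃ j, x ∈ ℳ j) {y : M} (hy : y ∈ Submodule.span R X) :
    ∀ n, (decompose ℳ y n : M) ∈ Submodule.span R X := by
  classical
  induction hy using Submodule.span_induction with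
  | mem x hx =>
    intro n
    obtain ⟨j, hj⟩ := hX x hx
    by_cases hn : n = j
    · subst hn; rw [decompose_of_mem_same ℳ hj]; exact Submodule.subset_span hx
    · rw [decompose_of_mem_ne ℳ hj (Ne.symm hn)]; exact zero_mem _
  | zero => intro n; simp
  | add y z _ _ h1 h2 =>
    intro n; simp only [decompose_add, DirectSum.add_apply, AddMemClass.coe_add]
    exact add_mem (h1 n) (h2 n)
  | smul s y _ h1 =>
    intro n
    induction s using DirectSum.Decomposition.inductionOn 𝒜 with
    | zero => simp
    | @homogeneous i a =>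
      rw [decompose_smul 𝒜 ℳ a.2]
      exact Submodule.smul_mem _ _ (h1 _)
    | add a b h h' =>
      simp only [add_smul, decompose_add, DirectSum.add_apply, AddMemClass.coe_add]
      exact add_mem h h'

variable (hneg : ∀ i : ℤ, i < 0 → ∀ x ∈ 𝒜 i, x = 0)

include hneg in
theorem exists_lower_bound [Module.Finite R M] : ∃ L : ℤ, ∀ n < L, ∀ y : M, (decompose ℳ y n : M) = 0 := by
  classical
  obtain ⟨S, hS⟩ := Module.Finite.fg_top (R := R) (M := M)
  obtain ⟨L, hL⟩ := Finset.bddBelow (S.biUnion fun y => (decompose ℳ y).support)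
  refine ⟨L, fun n hn y => ?_⟩
  have hy : y ∈ Submodule.span R (S : Set M) := hS ▸ Submodule.mem_top
  revert n
  induction hy using Submodule.span_induction with
  | mem x hx =>
    intro n hn
    by_contra h
    have : n ∈ S.biUnion fun y => (decompose ℳ y).support :=
      Finset.mem_biUnion.2 ⟨x, hx, DFinsupp.mem_support_iff.2 fun h' => h (by rw [h']; rfl)⟩
    exact absurd (hL this) (not_le.2 hn)
  | zero => intro n _; simp
  | add y z _ _ h1 h2 => intro n hn; simp [h1 n hn, h2 n hn]
  | smul s y _ h1 =>
    intro n hn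
    induction s using DirectSum.Decomposition.inductionOn 𝒜 with
    | zero => simp
    | @homogeneous i a =>
      rw [decompose_smul 𝒜 ℳ a.2]
      rcases lt_or_ge i 0 with hi | hi
      · rw [hneg i hi a.1 a.2, zero_smul]
      · rw [h1 (n - i) (by omega), smul_zero]
    | add a b h h' => simp [add_smul, h, h']

include hneg in
/-- Graded Nakayama. -/
theorem span_eq_top [Module.Finite R M] {X : Set M} (hX : ∀ x ∈ X, ∃ j, x ∈ ℳ j)
    (h : Submodule.span R X ⊔ irr 𝒜 • (⊤ : Submodule R M) = ⊤) : Submodule.span R X = ⊤ := by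
  classical
  obtain ⟨L, hL⟩ := exists_lower_bound 𝒜 ℳ hneg
  suffices H : ∀ (t : ℕ) (n : ℤ), n - L < t → ∀ y : M, (decompose ℳ y n : M) ∈ Submodule.span R X by
    refine eq_top_iff.mpr fun y _ => ?_
    rw [← DirectSum.sum_support_decompose ℳ y]
    exact Submodule.sum_mem _ fun n _ => H ((n - L).toNat + 1) n (by omega) y
  intro t
  induction t with
  | zero =>
    intro n hn y
    rw [hL n (by omega) y]
    exact zero_mem _
  | succ t ih =>
    intro n hn y
    have hy : y ∈ Submodule.span R X ⊔ irr 𝒜 • (⊤ : Submodule R M) := by rw [h]; exact Submodule.mem_top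
    obtain ⟨a, ha, b, hb, rfl⟩ := Submodule.mem_sup.mp hy
    simp only [decompose_add, DirectSum.add_apply, AddMemClass.coe_add]
    refine add_mem (decompose_mem_span 𝒜 ℳ hX ha n) ?_
    clear hy ha
    induction hb using Submodule.smul_induction_on' with
    | smul s hs z _ =>
      clear h
      induction hs using Submodule.span_induction generalizing z with
      | mem r hr =>
        obtain ⟨i, hi, hri⟩ := hr
        rw [decompose_smul 𝒜 ℳ hri]
        exact Submodule.smul_mem _ _ (ih _ (by omega) z)
      | zero => simp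
      | add r r' _ _ h1 h2 =>
        simp only [add_smul, decompose_add, DirectSum.add_apply, AddMemClass.coe_add]
        exact add_mem (h1 z (by simp)) (h2 z (by simp))
      | smul c r _ h1 =>
        rw [smul_eq_mul, mul_comm, mul_smul]
        exact h1 (c • z) (by simp)
    | add x _ x' _ h1 h2 =>
      simp only [decompose_add, DirectSum.add_apply, AddMemClass.coe_add]
      exact add_mem h1 h2

include hneg in
theorem decompose_zero_of_mem_irr {r : R} (hr : r ∈ irr 𝒜) : ∀ n ≤ (0 : ℤ), (decompose 𝒜 r n : R) = 0 := by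
  classical
  induction hr using Submodule.span_induction with
  | mem r hr =>
    intro n hn
    obtain ⟨i, hi, hri⟩ := hr
    exact decompose_of_mem_ne 𝒜 hri (by omega)
  | zero => intro n _; simp
  | add r r' _ _ h1 h2 => intro n hn; simp [h1 n hn, h2 n hn]
  | smul c r _ h1 =>
    intro n hn
    induction c using DirectSum.Decomposition.inductionOn 𝒜 with
    | zero => simp
    | @homogeneous i a =>
      rw [smul_eq_mul, ← smul_eq_mul, decompose_smul 𝒜 𝒜 a.2]
      rcases lt_or_ge i 0 with hi | hi
      · rw [hneg i hi a.1 a.2, zero_smul]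
      · rw [h1 (n - i) (by omega), smul_zero]
    | add a b h h' =>
      simp only [smul_eq_mul] at h h' ⊢
      rw [add_mul, decompose_add, DirectSum.add_apply, AddMemClass.coe_add, h, h', add_zero]

include hneg in
theorem eq_zero_of_mul_eq_zero {r x : R} (hr : r - 1 ∈ irr 𝒜) (hx : r * x = 0) : x = 0 := by
  classical
  by_contra hx0
  have hne : (decompose 𝒜 x).support.Nonempty := by
    rw [Finset.nonempty_iff_ne_empty, Ne, DFinsupp.support_eq_empty]
    exact fun h => hx0 ((decompose 𝒜).injective (h.trans (decompose_zero (ℳ := 𝒜)).symm))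
  let m := (decompose 𝒜 x).support.min' hne
  have key : ∀ s ∈ irr 𝒜, (decompose 𝒜 (s * x) m : R) = 0 := by
    intro s hs
    rw [← DirectSum.sum_support_decompose 𝒜 s, Finset.sum_mul, decompose_sum, DFinsupp.finsetSum_apply,
      AddSubmonoidClass.coe_finsetSum]
    refine Finset.sum_eq_zero fun i _ => ?_
    rw [← smul_eq_mul, decompose_smul 𝒜 𝒜 (SetLike.coe_mem _)]
    rcases le_or_gt i 0 with hi | hi
    · rw [decompose_zero_of_mem_irr 𝒜 hneg hs i hi, zero_smul]
    · by_cases h : m - i ∈ (decompose 𝒜 x).support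
      · exact absurd (Finset.min'_le _ _ h) (by omega)
      · rw [DFinsupp.notMem_support_iff.1 h]; simp
  have h1 : (decompose 𝒜 (r * x) m : R) = decompose 𝒜 x m := by
    conv_lhs => rw [show r * x = x + (r - 1) * x by ring, decompose_add, DirectSum.add_apply, AddMemClass.coe_add, key _ hr]
    rw [add_zero]
  rw [hx] at h1
  exact DFinsupp.mem_support_iff.1 ((decompose 𝒜 x).support.min'_mem hne) (Subtype.ext (by simpa using h1.symm))

variable (hk : ∀ c : k, algebraMap k R c ∈ 𝒜 0) (h0 : ∀ x ∈ 𝒜 0, ∃ c : k, algebraMap k R c = x)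

include hneg h0 in
theorem exists_sub_mem_irr (r : R) : ∃ c : k, r - algebraMap k R c ∈ irr 𝒜 := by
  classical
  induction r using DirectSum.Decomposition.inductionOn 𝒜 with
  | zero => exact ⟨0, by simp⟩
  | @homogeneous i a =>
    rcases lt_trichotomy i 0 with hi | rfl | hi
    · exact ⟨0, by simp [hneg i hi a.1 a.2]⟩
    · obtain ⟨c, hc⟩ := h0 a.1 a.2
      exact ⟨c, by simp [hc]⟩
    · exact ⟨0, by rw [map_zero, sub_zero]; exact Ideal.subset_span ⟨i, hi, a.2⟩⟩
  | add a b ha hb =>
    obtain ⟨c, hc⟩ := ha
    obtain ⟨c', hc'⟩ := hb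
    exact ⟨c + c', by rw [map_add, add_sub_add_comm]; exact add_mem hc hc'⟩

include hneg hk h0 in
/-- A finitely generated projective graded module has a homogeneous basis. -/
theorem exists_basis [Module.Finite R M] [Module.Projective R M] :
    ∃ (ι : Type u) (b : Module.Basis ι R M), ∀ i : ι, SetLike.IsHomogeneousElem ℳ (b i) := by
  classical
  let I := irr 𝒜
  letI : Module k M := Module.compHom M (algebraMap k R)
  haveI : IsScalarTower k R M := IsScalarTower.of_algebraMap_smul fun c m => rfl
  let N : Submodule k M := (I • (⊤ : Submodule R M)).restrictScalars k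
  let Hs : Set (M ⧸ N) := {z | ∃ (j : ℤ) (x : M), x ∈ ℳ j ∧ Submodule.Quotient.mk x = z}
  have hspanH : Submodule.span k Hs = ⊤ := by
    rw [eq_top_iff]
    rintro z -
    obtain ⟨y, rfl⟩ := Submodule.Quotient.mk_surjective _ z
    induction y using DirectSum.Decomposition.inductionOn ℳ with
    | zero => simp
    | @homogeneous j y => exact Submodule.subset_span ⟨j, y.1, y.2, rfl⟩
    | add a b ha hb => rw [Submodule.Quotient.mk_add]; exact add_mem ha hb
  obtain ⟨B, hBH, hspanB, hli⟩ := exists_linearIndependent k Hs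
  choose deg x hx hxq using fun z : B => hBH z.2
  have hred : ∀ y : M, ∀ r : R, ∃ c : k, Submodule.Quotient.mk (r • y) = c • (Submodule.Quotient.mk y : M ⧸ N) := by
    intro y r
    obtain ⟨c, hc⟩ := exists_sub_mem_irr 𝒜 hneg h0 r
    refine ⟨c, ?_⟩
    rw [← Submodule.Quotient.mk_smul, Submodule.Quotient.eq]
    show r • y - algebraMap k R c • y ∈ I • (⊤ : Submodule R M)
    rw [← sub_smul]
    exact Submodule.smul_mem_smul hc trivial
  haveI : Module.Finite k (M ⧸ N) := by
    obtain ⟨S, hS⟩ := Module.Finite.fg_top (R := R) (M := M)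
    refine ⟨⟨S.image fun y => (Submodule.Quotient.mk y : M ⧸ N), eq_top_iff.2 ?_⟩⟩
    rintro z -
    obtain ⟨y, rfl⟩ := Submodule.Quotient.mk_surjective _ z
    have hy : y ∈ Submodule.span R (S : Set M) := hS ▸ Submodule.mem_top
    induction hy using Submodule.span_induction with
    | mem y hy => exact Submodule.subset_span (by simpa using ⟨y, hy, rfl⟩)
    | zero => simp
    | add a b _ _ ha hb => rw [Submodule.Quotient.mk_add]; exact add_mem ha hb
    | smul r y _ hy =>
      obtain ⟨c, hc⟩ := hred y r
      rw [hc]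
      exact Submodule.smul_mem _ _ hy
  haveI : Finite B := hli.finite
  haveI : Fintype B := Fintype.ofFinite B
  have htop : Submodule.span R (Set.range x) = ⊤ := by
    refine span_eq_top 𝒜 ℳ hneg (by rintro _ ⟨z, rfl⟩; exact ⟨_, hx z⟩) (eq_top_iff.2 fun y _ => ?_)
    have : (Submodule.Quotient.mk y : M ⧸ N) ∈ Submodule.span k (Set.range fun z : B => (z : M ⧸ N)) := by
      rw [Subtype.range_coe, hspanB, hspanH]; trivial
    obtain ⟨c, hc⟩ := (Submodule.mem_span_range_iff_exists_fun k).1 this
    refine Submodule.mem_sup.2 ⟨∑ z, algebraMap k R (c z) • x z,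
      Submodule.sum_mem _ fun z _ => Submodule.smul_mem _ _ (Submodule.subset_span ⟨z, rfl⟩),
      y - ∑ z, algebraMap k R (c z) • x z, ?_, add_sub_cancel _ _⟩
    show y - ∑ z, algebraMap k R (c z) • x z ∈ N
    rw [← Submodule.Quotient.eq, ← hc, ← Submodule.mkQ_apply, map_sum]
    refine Finset.sum_congr rfl fun z _ => ?_
    rw [← hxq z]
    rfl
  let π : (B → R) →ₗ[R] M := Fintype.linearCombination R x
  have hπ : Function.Surjective π := LinearMap.range_eq_top.1 (by rw [Fintype.range_linearCombination, htop])
  obtain ⟨s, hs⟩ := Module.projective_lifting_property π LinearMap.id hπ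
  let K := LinearMap.ker π
  have hKfg : K.FG := by
    have : K = LinearMap.range (LinearMap.id - s.comp π) := by
      ext w
      refine ⟨fun hw => ⟨w, ?_⟩, ?_⟩
      · show w - s (π w) = w
        rw [show π w = 0 from hw, map_zero, sub_zero]
      · rintro ⟨v, rfl⟩
        show π (v - s (π v)) = 0
        rw [map_sub, sub_eq_zero]
        exact (LinearMap.congr_fun hs (π v)).symm
    rw [this, LinearMap.range_eq_map]
    exact Module.Finite.fg_top.map _
  have hKI : K ≤ I • K := by
    intro w hw
    have hcoord : ∀ z, w z ∈ I := by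
      choose c hc using fun z => exists_sub_mem_irr 𝒜 hneg h0 (w z)
      have h2 : ∑ z : B, c z • (z : M ⧸ N) = 0 := by
        have hw' : ∑ z, w z • x z = 0 := hw
        have h3 : (∑ z, algebraMap k R (c z) • x z) ∈ N := by
          show _ ∈ I • (⊤ : Submodule R M)
          rw [← neg_mem_iff, ← zero_sub, ← hw', ← Finset.sum_sub_distrib]
          refine Submodule.sum_mem _ fun z _ => ?_
          rw [← sub_smul]
          exact Submodule.smul_mem_smul (hc z) trivial
        rw [← (Submodule.Quotient.mk_eq_zero N).2 h3, ← Submodule.mkQ_apply, map_sum]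
        refine Finset.sum_congr rfl fun z _ => ?_
        rw [← hxq z]
        rfl
      intro z
      have := Fintype.linearIndependent_iff.1 hli c h2 z
      simpa [this] using hc z
    have hw2 : w ∈ I • (⊤ : Submodule R (B → R)) := by
      rw [← Finset.univ_sum_single w]
      refine Submodule.sum_mem _ fun z _ => ?_
      rw [show (Pi.single z (w z) : B → R) = w z • Pi.single z 1 by
        rw [← Pi.single_smul, smul_eq_mul, mul_one]]
      exact Submodule.smul_mem_smul (hcoord z) trivial
    let P : (B → R) →ₗ[R] (B → R) := LinearMap.id - s.comp π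
    have hp : P w ∈ (I • (⊤ : Submodule R (B → R))).map P :=
      ⟨w, hw2, rfl⟩
    rw [Submodule.map_smul''] at hp
    have he : P w = w := by
      show w - s (π w) = w
      rw [show π w = 0 from hw, map_zero, sub_zero]
    rw [he] at hp
    refine Submodule.smul_mono le_rfl ?_ hp
    rintro _ ⟨v, -, rfl⟩
    show π (v - s (π v)) = 0
    rw [map_sub, sub_eq_zero]
    exact (LinearMap.congr_fun hs (π v)).symm
  obtain ⟨r, hr, hr0⟩ := Submodule.exists_sub_one_mem_and_smul_eq_zero_of_fg_of_le_smul I K hKfg hKI
  have hinj : Function.Injective π := by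
    rw [← LinearMap.ker_eq_bot, eq_bot_iff]
    intro w hw
    refine (Submodule.mem_bot R).2 (funext fun z => eq_zero_of_mul_eq_zero 𝒜 hneg hr ?_)
    exact congrFun (hr0 w hw) z
  refine ⟨B, (Pi.basisFun R B).map (LinearEquiv.ofBijective π ⟨hinj, hπ⟩), fun z => ⟨deg z, ?_⟩⟩
  rw [Module.Basis.map_apply, LinearEquiv.ofBijective_apply, Pi.basisFun_apply]
  show π (Pi.single z 1) ∈ ℳ (deg z)
  rw [Fintype.linearCombination_apply_single, one_smul]
  exact hx z

end Groth.Agent.H11Misc.GradedFree
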