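import Groth.Agent.H11Misc.GradedWeight
import Groth.Agent.H11Misc.AugmentedSmooth
import Mathlib.RingTheory.GradedAlgebra.Basic

/-!
# Smooth algebras graded by a fine sharp monoid are symmetric algebras
-/

set_option autoImplicit false
set_option linter.style.haveILetI false

noncomputable section

universe u v w

namespace Groth.Agent.H11Misc

open Augmented

variable {R : Type u} {C : Type v} {A : Type w} [CommRing R] [CommRing C] [CommRing A]
  [Algebra R C] [Algebra R A] [Algebra C A] [IsScalarTower R C A]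
variable {N : Type} [AddCommMonoid N] [DecidableEq N] (𝒜 : N → Submodule R A) [GradedAlgebra 𝒜]

/-- A smooth algebra graded by a fine sharp monoid, augmented over its degree zero part, is the
symmetric algebra of a finite projective module. -/
theorem exists_equiv_symmetricAlgebra [AddMonoid.FG N] [IsCancelAdd N]
    (hsharp : ∀ n : N, IsAddUnit n → n = 0)
    [Algebra.Smooth R A] (r : A →ₐ[C] C)
    (hr : ∀ x, algebraMap C A (r x) = GradedRing.proj 𝒜 0 x) :
    ∃ (P : Type w) (_ : AddCommGroup P) (_ : Module C P), Module.Finite C P ∧ Module.Projective C P ∧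
      Nonempty (A ≃ₐ[C] SymmetricAlgebra C P) := by
  classical
  obtain ⟨hfin, hproj⟩ := finite_projective_cotangent (R := R) r
  obtain ⟨L, hL, hL1⟩ := exists_weight N hsharp
  have hC0 : ∀ c : C, algebraMap C A c ∈ 𝒜 0 := fun c => by
    have h := hr (algebraMap C A c)
    rw [r.commutes] at h
    rw [show algebraMap C A c = algebraMap C A (algebraMap C C c) from rfl, h]
    exact SetLike.coe_mem _
  -- components of products with degree zero elements
  have hscal : ∀ (n : N) (c : C) (x : A), GradedRing.proj 𝒜 n (algebraMap C A c * x) =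
      algebraMap C A c * GradedRing.proj 𝒜 n x := by
    intro n c x
    induction x using DirectSum.Decomposition.inductionOn 𝒜 with
    | zero => simp
    | @homogeneous i x =>
      have hm : algebraMap C A c * x.1 ∈ 𝒜 i := by simpa using SetLike.mul_mem_graded (hC0 c) x.2
      simp only [GradedRing.proj_apply]
      rcases eq_or_ne i n with rfl | h
      · rw [DirectSum.decompose_of_mem_same 𝒜 hm, DirectSum.decompose_of_mem_same 𝒜 x.2]
      · rw [DirectSum.decompose_of_mem_ne 𝒜 hm h, DirectSum.decompose_of_mem_ne 𝒜 x.2 h, mul_zero]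
    | add x y hx hy => rw [mul_add, map_add, map_add, hx, hy, mul_add]
  let pr : N → A →ₗ[C] A := fun n =>
    { toFun := GradedRing.proj 𝒜 n
      map_add' := map_add _
      map_smul' := fun c x => by rw [RingHom.id_apply, Algebra.smul_def, hscal, ← Algebra.smul_def] }
  have hpr_mem : ∀ n x, pr n x ∈ 𝒜 n := fun n x => SetLike.coe_mem _
  have hpr_same : ∀ (n : N) (x : A), x ∈ 𝒜 n → pr n x = x := fun n x hx =>
    DirectSum.decompose_of_mem_same 𝒜 hx
  have hpr_ne : ∀ (n m : N) (x : A), x ∈ 𝒜 n → n ≠ m → pr m x = 0 := fun n m x hx h =>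
    DirectSum.decompose_of_mem_ne 𝒜 hx h
  have haug : ∀ (n : N) (x : A), x ∈ 𝒜 n → n ≠ 0 → x ∈ aug r := by
    intro n x hx hn
    have h : algebraMap C A (r x) = 0 := (hr x).trans (hpr_ne n 0 x hx hn)
    have h' := congrArg r h
    rwa [r.commutes, map_zero] at h'
  -- the filtration by weight
  let F : ℕ → Submodule C A := fun k =>
    { carrier := {x | ∀ n, L n < k → pr n x = 0}
      zero_mem' := fun n _ => map_zero _
      add_mem' := fun {x y} hx hy n hn => by rw [map_add, hx n hn, hy n hn, add_zero]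
      smul_mem' := fun c x hx n hn => by rw [map_smul, hx n hn, smul_zero] }
  have hFmul : ∀ a b, ∀ x ∈ F a, ∀ y ∈ F b, x * y ∈ F (a + b) := by
    intro a b x hx y hy
    rw [← DirectSum.sum_support_decompose 𝒜 x, ← DirectSum.sum_support_decompose 𝒜 y, Finset.sum_mul_sum]
    refine sum_mem fun i hi => sum_mem fun j hj => fun n hn => ?_
    have hi' : a ≤ L i := by
      by_contra h
      exact (DFinsupp.mem_support_iff.1 hi) (Subtype.ext (hx i (by omega)))
    have hj' : b ≤ L j := by
      by_contra h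
      exact (DFinsupp.mem_support_iff.1 hj) (Subtype.ext (hy j (by omega)))
    refine hpr_ne (i + j) n _ (SetLike.mul_mem_graded (SetLike.coe_mem _) (SetLike.coe_mem _)) fun h => ?_
    have := hL i j
    rw [h] at this
    omega
  have hFtop : ∀ x, x ∈ F 0 := fun x n hn => absurd hn (Nat.not_lt_zero _)
  have hF1 : ∀ x ∈ aug r, x ∈ F 1 := by
    intro x hx n hn
    rcases eq_or_ne n 0 with rfl | h
    · exact (hr x).symm.trans (by rw [show r x = 0 from hx, map_zero])
    · exact absurd (hL1 n h) (by omega)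
  have hFpow : ∀ k, ∀ x ∈ (aug r) ^ k, x ∈ F k := by
    intro k
    induction k with
    | zero => exact fun x _ => hFtop x
    | succ k ih =>
      intro x hx
      rw [pow_succ] at hx
      exact Submodule.mul_induction_on hx (fun a ha b hb => hFmul k 1 a (ih a ha) b (hF1 b hb))
        (fun a b ha hb => (F (k + 1)).add_mem ha hb)
  -- homogeneity of the augmentation ideal and of its square
  have hhom1 : ∀ (n : N) (x : A), x ∈ aug r → pr n x ∈ aug r := by
    intro n x hx
    rcases eq_or_ne n 0 with rfl | h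
    · rw [show pr 0 x = algebraMap C A (r x) from (hr x).symm, show r x = 0 from hx, map_zero]
      exact zero_mem _
    · exact haug n _ (hpr_mem n x) h
  have hhom2 : ∀ (n : N) (x : A), x ∈ (aug r) ^ 2 → pr n x ∈ (aug r) ^ 2 := by
    intro n x hx
    rw [pow_two] at hx ⊢
    refine Submodule.mul_induction_on hx (fun a ha b hb => ?_) (fun a b ha hb => by rw [map_add]; exact add_mem ha hb)
    rw [← DirectSum.sum_support_decompose 𝒜 a, ← DirectSum.sum_support_decompose 𝒜 b, Finset.sum_mul_sum]
    rw [map_sum]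
    refine sum_mem fun i _ => ?_
    rw [map_sum]
    refine sum_mem fun j _ => ?_
    have hmem : ((DirectSum.decompose 𝒜 a i : 𝒜 i) : A) * (DirectSum.decompose 𝒜 b j : 𝒜 j) ∈ 𝒜 (i + j) :=
      SetLike.mul_mem_graded (SetLike.coe_mem _) (SetLike.coe_mem _)
    rcases eq_or_ne (i + j) n with h | h
    · rw [hpr_same n _ (h ▸ hmem)]
      exact Ideal.mul_mem_mul (hhom1 i a ha) (hhom1 j b hb)
    · rw [hpr_ne _ n _ hmem h]
      exact zero_mem _
  -- a section homogeneous in every degree
  let q : aug r →ₗ[C] (aug r).Cotangent := (aug r).toCotangent.restrictScalars C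
  obtain ⟨σ, hσ⟩ := Module.projective_lifting_property q LinearMap.id (aug r).toCotangent_surjective
  let g : N → aug r →ₗ[C] A := fun n =>
    pr n ∘ₗ ((aug r).subtype.restrictScalars C) ∘ₗ σ ∘ₗ q ∘ₗ
      (((pr n) ∘ₗ (aug r).subtype.restrictScalars C).codRestrict ((aug r).restrictScalars C)
        fun x => hhom1 n x.1 x.2)
  have hgsupp : ∀ (n : N) (x : aug r), n ∉ (DirectSum.decompose 𝒜 (x : A)).support → g n x = 0 := by
    intro n x hn
    have h0 : pr n (x : A) = 0 := by
      show ((DirectSum.decompose 𝒜 (x : A) n : 𝒜 n) : A) = 0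
      rw [DFinsupp.notMem_support_iff.1 hn, ZeroMemClass.coe_zero]
    show pr n (σ (q ⟨pr n (x : A), hhom1 n x.1 x.2⟩) : aug r).1 = 0
    rw [show (⟨pr n (x : A), hhom1 n x.1 x.2⟩ : aug r) = 0 from Subtype.ext h0, map_zero, map_zero,
      ZeroMemClass.coe_zero, map_zero]
  let ψ : aug r →ₗ[C] A :=
    { toFun := fun x => ∑ n ∈ (DirectSum.decompose 𝒜 (x : A)).support, g n x
      map_add' := fun x y => by
        have hext : ∀ (z : aug r) (s : Finset N), (DirectSum.decompose 𝒜 (z : A)).support ⊆ s →
            ∑ n ∈ (DirectSum.decompose 𝒜 (z : A)).support, g n z = ∑ n ∈ s, g n z :=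
          fun z s hs => Finset.sum_subset hs fun n _ hn => hgsupp n z hn
        let s := (DirectSum.decompose 𝒜 ((x + y : aug r) : A)).support ∪
          ((DirectSum.decompose 𝒜 (x : A)).support ∪ (DirectSum.decompose 𝒜 (y : A)).support)
        rw [hext _ s Finset.subset_union_left, hext _ s (Finset.subset_union_left.trans Finset.subset_union_right),
          hext _ s (Finset.subset_union_right.trans Finset.subset_union_right), ← Finset.sum_add_distrib]
        exact Finset.sum_congr rfl fun n _ => map_add (g n) x y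
      map_smul' := fun c x => by
        have hext : ∀ (z : aug r) (s : Finset N), (DirectSum.decompose 𝒜 (z : A)).support ⊆ s →
            ∑ n ∈ (DirectSum.decompose 𝒜 (z : A)).support, g n z = ∑ n ∈ s, g n z :=
          fun z s hs => Finset.sum_subset hs fun n _ hn => hgsupp n z hn
        let s := (DirectSum.decompose 𝒜 ((c • x : aug r) : A)).support ∪ (DirectSum.decompose 𝒜 (x : A)).support
        rw [RingHom.id_apply, hext _ s Finset.subset_union_left, hext _ s Finset.subset_union_right,
          Finset.smul_sum]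
        exact Finset.sum_congr rfl fun n _ => map_smul (g n) c x }
  have hψmem : ∀ x, ψ x ∈ aug r := fun x => sum_mem fun n _ => hhom1 n _ (SetLike.coe_mem _)
  have hψsub : ∀ x : aug r, ψ x - x.1 ∈ (aug r) ^ 2 := by
    intro x
    rw [show x.1 = ∑ n ∈ (DirectSum.decompose 𝒜 (x : A)).support, pr n x.1 from
      (DirectSum.sum_support_decompose 𝒜 (x : A)).symm]
    show ∑ n ∈ _, g n x - _ ∈ _
    rw [← Finset.sum_sub_distrib]
    refine sum_mem fun n _ => ?_
    let y : aug r := ⟨pr n (x : A), hhom1 n x.1 x.2⟩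
    have h1 : (σ (q y)).1 - y.1 ∈ (aug r) ^ 2 := ((aug r).toCotangent_eq).1 (LinearMap.congr_fun hσ (q y))
    have h2 := hhom2 n _ h1
    rw [map_sub, hpr_same n y.1 (hpr_mem n _)] at h2
    exact h2
  have hψker : ∀ x y : aug r, q x = q y → ψ x = ψ y := by
    intro x y hxy
    have key : ∀ z : aug r, q z = 0 → ψ z = 0 := fun z hz => Finset.sum_eq_zero fun n _ => by
      show pr n (σ (q ⟨pr n (z : A), hhom1 n z.1 z.2⟩) : aug r).1 = 0
      rw [show q ⟨pr n (z : A), hhom1 n z.1 z.2⟩ = 0 from
        ((aug r).toCotangent_eq_zero _).2 (hhom2 n _ (((aug r).toCotangent_eq_zero z).1 hz)), map_zero,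
        ZeroMemClass.coe_zero, map_zero]
    rw [← sub_eq_zero, ← map_sub]
    exact key _ (by rw [map_sub, hxy, sub_self])
  let φ : (aug r).Cotangent →ₗ[C] A := ψ ∘ₗ σ
  have hφq : ∀ x : aug r, φ (q x) = ψ x := fun x => hψker _ _ (LinearMap.congr_fun hσ (q x))
  have hφ : ∀ p, φ p ∈ aug r := fun p => hψmem _
  have hφ' : ∀ p, φ p ∈ (aug r) ^ 2 → p = 0 := by
    intro p hp
    obtain ⟨x, rfl⟩ := (aug r).toCotangent_surjective p
    have h := hφq x
    rw [show (aug r).toCotangent x = q x from rfl, h] at hp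
    exact ((aug r).toCotangent_eq_zero x).2 (by simpa using sub_mem hp (hψsub x))
  let Φ := SymmetricAlgebra.lift φ
  let B : Subalgebra C A := Φ.range
  have hφB : ∀ p, φ p ∈ B := fun p => ⟨SymmetricAlgebra.ι C _ p, SymmetricAlgebra.lift_ι_apply _ _⟩
  -- the image is a homogeneous subalgebra
  have hBhom : ∀ y ∈ B, ∀ n, pr n y ∈ B := by
    let G : Set A := {z | z ∈ B ∧ ∃ m, z ∈ 𝒜 m}
    let M : Submonoid A :=
      { carrier := G
        one_mem' := ⟨B.one_mem, 0, SetLike.one_mem_graded 𝒜⟩
        mul_mem' := fun {a b} ⟨ha, i, hi⟩ ⟨hb, j, hj⟩ => ⟨B.mul_mem ha hb, i + j, SetLike.mul_mem_graded hi hj⟩ }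
    have hB : B ≤ Algebra.adjoin C (M : Set A) := by
      rintro y ⟨z, rfl⟩
      induction z using SymmetricAlgebra.induction with
      | algebraMap c => exact AlgHom.commutes Φ c ▸ Subalgebra.algebraMap_mem _ c
      | ι p =>
        show Φ (SymmetricAlgebra.ι C _ p) ∈ _
        rw [SymmetricAlgebra.lift_ι_apply]
        refine sum_mem fun n _ => Algebra.subset_adjoin ⟨?_, n, hpr_mem n _⟩
        let y : aug r := ⟨pr n ((σ p : aug r) : A), hhom1 n _ (σ p).2⟩
        have hy : ψ y = g n (σ p) := by
          show ∑ m ∈ _, g m y = _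
          rw [Finset.sum_eq_single n]
          · show pr n (σ (q ⟨pr n y.1, _⟩) : aug r).1 = pr n (σ (q y) : aug r).1
            exact congrArg (fun z : aug r => pr n (σ (q z) : aug r).1) (Subtype.ext (hpr_same n y.1 (hpr_mem n _)))
          · intro m _ hm
            show pr m (σ (q ⟨pr m y.1, _⟩) : aug r).1 = 0
            rw [show (⟨pr m y.1, hhom1 m y.1 y.2⟩ : aug r) = 0 from
              Subtype.ext (hpr_ne n m y.1 (hpr_mem n _) (Ne.symm hm)), map_zero, map_zero,
              ZeroMemClass.coe_zero, map_zero]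
          · exact hgsupp n y
        rw [show g n (σ p) = φ (q y) from hy.symm.trans (hφq y).symm]
        exact hφB _
      | mul a b ha hb => rw [map_mul]; exact mul_mem ha hb
      | add a b ha hb => rw [map_add]; exact add_mem ha hb
    intro y hy n
    have hy' : y ∈ Subalgebra.toSubmodule (Algebra.adjoin C (M : Set A)) := hB hy
    rw [Algebra.adjoin_eq_span, Submonoid.closure_eq] at hy'
    refine Submodule.span_induction (p := fun y _ => pr n y ∈ B) ?_ ?_ ?_ ?_ hy'
    · rintro z ⟨hz, m, hm⟩
      rcases eq_or_ne m n with rfl | h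
      · rwa [hpr_same m z hm]
      · rw [hpr_ne m n z hm h]
        exact zero_mem _
    · rw [map_zero]; exact zero_mem _
    · intro a b _ _ ha hb
      rw [map_add]; exact add_mem ha hb
    · intro c a _ ha
      rw [map_smul]; exact B.smul_mem ha c
  -- surjectivity
  have hdec : ∀ k : ℕ, ∀ x ∈ (aug r) ^ (k + 1), ∃ b ∈ B, x - b ∈ (aug r) ^ (k + 2) ∧ b ∈ (aug r) ^ (k + 1) := by
    intro k
    induction k with
    | zero =>
      intro x hx
      rw [zero_add, pow_one] at hx
      refine ⟨φ (q ⟨x, hx⟩), hφB _, ?_, by rw [zero_add, pow_one]; exact hφ _⟩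
      rw [hφq, ← neg_sub]
      exact neg_mem (hψsub ⟨x, hx⟩)
    | succ k ih =>
      intro x hx
      rw [pow_succ] at hx
      refine Submodule.mul_induction_on hx (fun a ha b hb => ?_) ?_
      · obtain ⟨a', ha'B, ha1, ha2⟩ := ih a ha
        refine ⟨a' * φ (q ⟨b, hb⟩), B.mul_mem ha'B (hφB _), ?_, ?_⟩
        · have : a * b - a' * φ (q ⟨b, hb⟩) = (a - a') * b + a' * (b - φ (q ⟨b, hb⟩)) := by ring
          rw [this]
          refine add_mem ?_ ?_
          · rw [pow_succ]; exact Ideal.mul_mem_mul ha1 hb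
          · rw [show k + 1 + 2 = (k + 1) + 2 from rfl, pow_add]
            refine Ideal.mul_mem_mul ha2 ?_
            rw [hφq, ← neg_sub]
            exact neg_mem (hψsub ⟨b, hb⟩)
        · rw [pow_succ]; exact Ideal.mul_mem_mul ha2 (hφ _)
      · rintro a b ⟨a', h1, h2, h3⟩ ⟨b', h4, h5, h6⟩
        exact ⟨a' + b', B.add_mem h1 h4, by rw [add_sub_add_comm]; exact add_mem h2 h5, add_mem h3 h6⟩
  have hall : ∀ (k : ℕ) (x : A), ∃ b ∈ B, x - b ∈ (aug r) ^ (k + 1) := by
    intro k x
    induction k with
    | zero => exact ⟨algebraMap C A (r x), B.algebraMap_mem _, by rw [zero_add, pow_one]; exact sub_mem_aug r x⟩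
    | succ k ih =>
      obtain ⟨b, hb, hxb⟩ := ih
      obtain ⟨b', hb', h, -⟩ := hdec k _ hxb
      exact ⟨b + b', B.add_mem hb hb', by rw [← sub_sub]; exact h⟩
  have hsurj : Function.Surjective Φ := by
    intro x
    have : x ∈ B := by
      rw [← DirectSum.sum_support_decompose 𝒜 x]
      refine sum_mem fun n _ => ?_
      obtain ⟨b, hb, hxb⟩ := hall (L n) ((DirectSum.decompose 𝒜 x n : 𝒜 n) : A)
      have h := hFpow _ _ hxb n (Nat.lt_succ_self _)
      rw [map_sub, hpr_same n _ (SetLike.coe_mem _), sub_eq_zero] at h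
      rw [h]
      exact hBhom b hb n
    exact this
  exact ⟨(aug r).Cotangent, inferInstance, inferInstance, hfin, hproj,
    ⟨(AlgEquiv.ofBijective Φ ⟨injective_lift (R := R) r φ hφ hφ' hsurj, hsurj⟩).symm⟩⟩

end Groth.Agent.H11Misc
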