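import Mathlib.GroupTheory.Finiteness
import Mathlib.Order.WellFoundedSet
import Mathlib.Algebra.BigOperators.Fin
import Mathlib.Data.Finsupp.PWO
import Mathlib.Algebra.Order.BigOperators.Group.Finset
import Mathlib.Algebra.Order.Pi
import Mathlib.Algebra.Order.Sub.Basic

/-!
# A weight function on fine sharp monoids
-/

set_option autoImplicit false

namespace Groth.Agent.H11Misc

/-- A finitely generated cancellative monoid without nonzero units carries a superadditive weight
which is positive away from zero. -/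
theorem exists_weight (N : Type*) [AddCommMonoid N] [AddMonoid.FG N] [IsCancelAdd N]
    (hsharp : ∀ n : N, IsAddUnit n → n = 0) :
    ∃ L : N → ℕ, (∀ n m, L n + L m ≤ L (n + m)) ∧ ∀ n, n ≠ 0 → 1 ≤ L n := by
  classical
  obtain ⟨S, hS⟩ := AddMonoid.FG.fg_top (M := N)
  let T : Finset N := S.erase 0
  have hT : AddSubmonoid.closure (T : Set N) = ⊤ := by
    refine eq_top_iff.2 (hS ▸ AddSubmonoid.closure_le.2 fun x hx => ?_)
    rcases eq_or_ne x 0 with rfl | h
    · exact zero_mem _
    · exact AddSubmonoid.subset_closure (by simp [T, h, Finset.mem_coe.1 hx])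
  let f : (T → ℕ) → N := fun c => ∑ t : T, c t • (t : N)
  have hfadd : ∀ c c', f (c + c') = f c + f c' := fun c c' => by
    simp only [f, Pi.add_apply, add_nsmul, Finset.sum_add_distrib]
  have hsurj : ∀ n, ∃ c, f c = n := by
    intro n
    have hn : n ∈ AddSubmonoid.closure (T : Set N) := hT ▸ trivial
    induction hn using AddSubmonoid.closure_induction with
    | mem x hx =>
      refine ⟨Pi.single (⟨x, hx⟩ : T) 1, ?_⟩
      simp only [f]
      rw [Finset.sum_eq_single (⟨x, hx⟩ : T)]
      · simp [one_nsmul]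
      · intro b _ hb
        simp [hb]
      · simp
    | zero => exact ⟨0, by simp [f]⟩
    | add x y _ _ hx hy =>
      obtain ⟨c, rfl⟩ := hx
      obtain ⟨c', rfl⟩ := hy
      exact ⟨c + c', hfadd c c'⟩
  have hzero : ∀ c, f c = 0 → c = 0 := by
    intro c hc
    funext t
    by_contra h
    have hu : IsAddUnit (t : N) := by
      obtain ⟨m, hm⟩ := Nat.exists_eq_succ_of_ne_zero h
      have hsplit : f c = (t : N) + (m • (t : N) + ∑ s ∈ Finset.univ.erase t, c s • (s : N)) := by
        simp only [f]
        rw [← Finset.add_sum_erase _ _ (Finset.mem_univ t), hm, succ_nsmul]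
        rw [add_comm (m • (t : N)), add_assoc]
      exact isAddUnit_iff_exists_neg.2 ⟨_, hsplit.symm.trans hc⟩
    exact (Finset.mem_erase.1 t.2).1 (hsharp _ hu)
  have hfin : ∀ n, {c | f c = n}.Finite := by
    intro n
    refine IsAntichain.finite_of_partiallyWellOrderedOn (r := (· ≤ ·)) ?_ (Set.isPWO_of_wellQuasiOrderedLE _)
    intro a ha b hb hab hle
    apply hab
    have hd : f (b - a) = 0 := by
      have h1 : f a + f (b - a) = f a + 0 := by
        rw [← hfadd, add_zero, show a + (b - a) = b from funext fun t => Nat.add_sub_cancel' (hle t), ha]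
        exact hb
      exact add_left_cancel h1
    have := hzero _ hd
    exact le_antisymm hle fun t => Nat.sub_eq_zero_iff_le.1 (congrFun this t)
  let L : N → ℕ := fun n => (hfin n).toFinset.sup fun c => ∑ t, c t
  have hmem : ∀ n c, f c = n → ∑ t, c t ≤ L n := fun n c hc =>
    Finset.le_sup (f := fun c : T → ℕ => ∑ t, c t) ((hfin n).mem_toFinset.2 hc)
  have hwit : ∀ n, ∃ c, f c = n ∧ ∑ t, c t = L n := by
    intro n
    obtain ⟨c0, hc0⟩ := hsurj n
    obtain ⟨c, hc, he⟩ := Finset.exists_mem_eq_sup (hfin n).toFinset ⟨c0, (hfin n).mem_toFinset.2 hc0⟩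
      fun c : T → ℕ => ∑ t, c t
    exact ⟨c, (hfin n).mem_toFinset.1 hc, he.symm⟩
  refine ⟨L, fun n m => ?_, fun n hn => ?_⟩
  · obtain ⟨c, hc, hc'⟩ := hwit n
    obtain ⟨e, he, he'⟩ := hwit m
    rw [← hc', ← he', ← Finset.sum_add_distrib]
    exact hmem _ (c + e) (by rw [hfadd, hc, he])
  · obtain ⟨c, hc⟩ := hsurj n
    refine le_trans ?_ (hmem n c hc)
    by_contra h
    apply hn
    rw [← hc]
    have h0 : ∀ t, c t = 0 := fun t => by
      have := Finset.single_le_sum (f := c) (fun i _ => Nat.zero_le _) (Finset.mem_univ t)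
      omega
    simp [f, h0]

end Groth.Agent.H11Misc
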