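import Groth.Agent.H8Props.FieldDimHeight
import Groth.Agent.H05EGA4.Samuel
import Groth.Agent.H3CAlg.FormsDim
import Groth.Agent.H22Alg.SamuelSum
import Groth.Prelude.Def_CohB1
import Mathlib.RingTheory.GradedAlgebra.Radical

/-!
# Hilbert polynomials of homogeneous ideals: degree = dimension, multiplicities
-/

set_option autoImplicit false
set_option linter.style.haveILetI false
set_option linter.unusedSectionVars false

universe u

noncomputable section

open Polynomial Filter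

namespace Groth.Agent.H11Misc.HilbertDeg

variable {k : Type u} [Field k] {n : ℕ}

local notation "𝕊" => MvPolynomial (Fin (n + 1)) k
local notation "𝒜" => CohB1.polyGrading n k

/-- The Hilbert function of `S / I`. -/
def hfun (I : Ideal 𝕊) (m : ℕ) : ℚ :=
  (Module.finrank k ↥(𝒜 m) : ℚ) - Module.finrank k ↥(Submodule.restrictScalars k I ⊓ 𝒜 m)

/-- `P` is the Hilbert polynomial of `S / I`. -/
def IsHilb (I : Ideal 𝕊) (P : ℚ[X]) : Prop := ∃ m₀ : ℕ, ∀ m : ℕ, m₀ ≤ m → P.eval (m : ℚ) = hfun I m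

theorem finite_piece (m : ℕ) : Module.Finite k (𝒜 m) := (H3CAlg.finrank_homogeneous n m).1

theorem IsHilb.unique {I : Ideal 𝕊} {P Q : ℚ[X]} (hP : IsHilb I P) (hQ : IsHilb I Q) : P = Q := by
  obtain ⟨a, ha⟩ := hP
  obtain ⟨b, hb⟩ := hQ
  refine sub_eq_zero.1 (H05EGA4.Samuel.eq_zero_of_eventually (eventually_atTop.2 ⟨max a b, fun m hm => ?_⟩))
  rw [eval_sub, ha m (le_of_max_le_left hm), hb m (le_of_max_le_right hm), sub_self]

theorem hfun_nonneg (I : Ideal 𝕊) (m : ℕ) : 0 ≤ hfun I m := by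
  haveI := finite_piece (k := k) (n := n) m
  have h := Submodule.finrank_mono (inf_le_right : Submodule.restrictScalars k I ⊓ 𝒜 m ≤ 𝒜 m)
  rw [hfun, sub_nonneg]
  exact_mod_cast h

theorem hfun_eq_zero {I : Ideal 𝕊} {m : ℕ} (h : ∀ z ∈ 𝒜 m, z ∈ I) : hfun I m = 0 := by
  rw [hfun, show Submodule.restrictScalars k I ⊓ 𝒜 m = 𝒜 m from inf_eq_right.2 h, sub_self]

theorem one_le_hfun {I : Ideal 𝕊} {m : ℕ} {z : 𝕊} (hz : z ∈ 𝒜 m) (hzI : z ∉ I) : 1 ≤ hfun I m := by
  haveI := finite_piece (k := k) (n := n) m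
  have h := Submodule.finrank_lt_finrank_of_lt
    (lt_of_le_of_ne (inf_le_right : Submodule.restrictScalars k I ⊓ 𝒜 m ≤ 𝒜 m) fun e => hzI (e.ge hz).1)
  rw [hfun, le_sub_iff_add_le]
  exact_mod_cast (by omega : 1 + Module.finrank k ↥(Submodule.restrictScalars k I ⊓ 𝒜 m) ≤ Module.finrank k (𝒜 m))

theorem decompose_mul_right {z g : 𝕊} {d : ℕ} (hg : g ∈ 𝒜 d) (i : ℕ) :
    (DirectSum.decompose 𝒜 (z * g) (i + d) : 𝕊) = (DirectSum.decompose 𝒜 z i : 𝕊) * g :=
  DirectSum.coe_decompose_mul_add_of_right_mem 𝒜 hg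

theorem isHomogeneous_colon {I : Ideal 𝕊} (hI : I.IsHomogeneous 𝒜) {g : 𝕊} {d : ℕ} (hg : g ∈ 𝒜 d) :
    (I.colon {g}).IsHomogeneous 𝒜 := fun i z hz => by
  rw [Submodule.mem_colon_singleton, smul_eq_mul] at hz ⊢
  rw [← decompose_mul_right hg i]
  exact hI _ hz

theorem isHomogeneous_sup_span {I : Ideal 𝕊} (hI : I.IsHomogeneous 𝒜) {g : 𝕊} {d : ℕ} (hg : g ∈ 𝒜 d) :
    (I ⊔ Ideal.span {g}).IsHomogeneous 𝒜 :=
  hI.sup (Ideal.homogeneous_span _ _ (by simpa using ⟨d, hg⟩))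

/-- The exact sequence of multiplication by a form. -/
theorem hfun_sup_span {I : Ideal 𝕊} (hI : I.IsHomogeneous 𝒜) {f : 𝕊} {d : ℕ} (hf : f ∈ 𝒜 d) (m : ℕ) :
    hfun (I ⊔ Ideal.span {f}) (m + d) = hfun I (m + d) - hfun (I.colon {f}) m := by
  haveI := finite_piece (k := k) (n := n) (m + d)
  haveI := finite_piece (k := k) (n := n) m
  by_cases hf0 : f = 0
  · subst hf0
    have h : hfun (I.colon {(0 : 𝕊)}) m = 0 := hfun_eq_zero fun z _ => by
      rw [Submodule.mem_colon_singleton, smul_zero]; exact zero_mem _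
    rw [h, sub_zero, Ideal.span_singleton_eq_bot.2 rfl, sup_bot_eq]
  let φ : 𝕊 →ₗ[k] 𝕊 := LinearMap.mulRight k f
  have hφ : Function.Injective φ := mul_left_injective₀ hf0
  let A := Submodule.restrictScalars k I ⊓ 𝒜 (m + d)
  let W := (𝒜 m).map φ
  have hW : W ≤ 𝒜 (m + d) := by
    rintro _ ⟨z, hz, rfl⟩
    exact SetLike.mul_mem_graded hz hf
  have e1 : Submodule.restrictScalars k (I ⊔ Ideal.span {f}) ⊓ 𝒜 (m + d) = A ⊔ W := by
    refine le_antisymm (fun z hz => ?_) (sup_le (fun z hz => ⟨Ideal.mem_sup_left hz.1, hz.2⟩) fun z hz => ?_)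
    · obtain ⟨a, ha, w, hw, rfl⟩ := Submodule.mem_sup.1 (show z ∈ I ⊔ Ideal.span {f} from hz.1)
      obtain ⟨b, rfl⟩ := Ideal.mem_span_singleton'.1 hw
      have hdec := DirectSum.decompose_of_mem_same 𝒜 hz.2
      rw [DirectSum.decompose_add, DirectSum.add_apply, Submodule.coe_add, decompose_mul_right hf] at hdec
      rw [← hdec]
      exact Submodule.add_mem_sup ⟨hI _ ha, SetLike.coe_mem _⟩ ⟨_, SetLike.coe_mem _, rfl⟩
    · obtain ⟨b, hb, rfl⟩ := hz
      exact ⟨Ideal.mem_sup_right (Ideal.mem_span_singleton'.2 ⟨b, rfl⟩), hW ⟨b, hb, rfl⟩⟩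
  have e2 : A ⊓ W = (Submodule.restrictScalars k (I.colon {f}) ⊓ 𝒜 m).map φ := by
    ext z
    constructor
    · rintro ⟨⟨hzI, -⟩, b, hb, rfl⟩
      exact ⟨b, ⟨Submodule.mem_colon_singleton.2 hzI, hb⟩, rfl⟩
    · rintro ⟨b, ⟨hbI, hb⟩, rfl⟩
      exact ⟨⟨Submodule.mem_colon_singleton.1 hbI, hW ⟨b, hb, rfl⟩⟩, b, hb, rfl⟩
  haveI : Module.Finite k A := Submodule.finiteDimensional_of_le inf_le_right
  haveI : Module.Finite k W := Submodule.finiteDimensional_of_le hW
  have h1 := Submodule.finrank_sup_add_finrank_inf_eq A W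
  have h2 : Module.finrank k W = Module.finrank k (𝒜 m) :=
    (Submodule.equivMapOfInjective φ hφ (𝒜 m)).finrank_eq.symm
  rw [e2, ← (Submodule.equivMapOfInjective φ hφ _).finrank_eq, h2] at h1
  simp only [hfun]
  rw [e1]
  have h3 : (Module.finrank k ↥(A ⊔ W) : ℚ) + Module.finrank k ↥(Submodule.restrictScalars k (I.colon {f}) ⊓ 𝒜 m) =
      Module.finrank k A + Module.finrank k (𝒜 m) := by exact_mod_cast h1
  linarith

/-- Homogeneous ideals are built from homogeneous primes. -/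
theorem induction_hom {C : Ideal 𝕊 → Prop} (htop : C ⊤)
    (hstep : ∀ (I : Ideal 𝕊) (g : 𝕊) (e : ℕ), I.IsHomogeneous 𝒜 → g ∈ 𝒜 e → g ∉ I →
      (I.colon {g}).IsPrime → C (I ⊔ Ideal.span {g}) → C I) :
    ∀ I : Ideal 𝕊, I.IsHomogeneous 𝒜 → C I := by
  intro I
  induction I using WellFoundedGT.induction with
  | _ I ih =>
    intro hI
    by_cases hIt : I = ⊤
    · exact hIt ▸ htop
    let T : Set (Ideal 𝕊) := {J | ∃ (g : 𝕊) (e : ℕ), g ∈ 𝒜 e ∧ g ∉ I ∧ J = I.colon {g}}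
    have hT : T.Nonempty := ⟨_, 1, 0, SetLike.one_mem_graded 𝒜, fun h => hIt (I.eq_top_iff_one.2 h), rfl⟩
    obtain ⟨p, ⟨g, e, hg, hgI, rfl⟩, hmax⟩ := (wellFounded_gt (α := Ideal 𝕊)).has_min T hT
    refine hstep I g e hI hg hgI ?_ (ih _ ?_ (isHomogeneous_sup_span hI hg))
    · refine (isHomogeneous_colon hI hg).isPrime_of_homogeneous_mem_or_mem
        (fun h => hgI (by
          have h1 := Submodule.mem_colon_singleton.1 (h ▸ (Submodule.mem_top : (1 : 𝕊) ∈ ⊤))
          rwa [smul_eq_mul, one_mul] at h1)) ?_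
      rintro a b ⟨i, ha⟩ - hab
      rw [Submodule.mem_colon_singleton, smul_eq_mul] at hab
      by_cases hag : a * g ∈ I
      · exact Or.inl (Submodule.mem_colon_singleton.2 hag)
      refine Or.inr ?_
      have hle : I.colon {g} ≤ I.colon {a * g} := fun z hz => by
        rw [Submodule.mem_colon_singleton, smul_eq_mul] at hz ⊢
        rw [mul_left_comm]
        exact I.mul_mem_left _ hz
      have heq : I.colon {g} = I.colon {a * g} := hle.lt_or_eq.resolve_left fun hlt =>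
        hmax _ ⟨a * g, i + e, SetLike.mul_mem_graded ha hg, hag, rfl⟩ hlt
      rw [heq, Submodule.mem_colon_singleton, smul_eq_mul]
      rwa [mul_left_comm, ← mul_assoc]
    · exact left_lt_sup.2 fun h => hgI (h (Ideal.mem_span_singleton_self g))

/-- The dimension of `S / q`. -/
theorem exists_dim (q : Ideal 𝕊) [q.IsPrime] : ∃ s : ℕ, ringKrullDim (𝕊 ⧸ q) = s :=
  haveI : Algebra.FiniteType k (𝕊 ⧸ q) := Algebra.FiniteType.trans (R := k) (S := 𝕊) inferInstance inferInstance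
  (H8Props.FieldDim.exists_dim_trdeg (k := k) (𝕊 ⧸ q)).imp fun _ h => h.1

theorem dim_mono {p q : Ideal 𝕊} [p.IsPrime] [q.IsPrime] (h : p ≤ q) :
    ringKrullDim (𝕊 ⧸ q) ≤ ringKrullDim (𝕊 ⧸ p) :=
  ringKrullDim_le_of_surjective _ (Ideal.Quotient.factor_surjective h)

theorem dim_lt {p q : Ideal 𝕊} [p.IsPrime] [q.IsPrime] (h : p < q) {s t : ℕ}
    (hp : ringKrullDim (𝕊 ⧸ p) = s) (hq : ringKrullDim (𝕊 ⧸ q) = t) : t < s := by
  have := H8Props.FieldDim.dim_quotient_lt (k := k) 𝕊 p q h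
  rw [hp, hq] at this
  exact_mod_cast this

theorem homogeneous_minimalPrimes {I : Ideal 𝕊} (hI : I.IsHomogeneous 𝒜) {q : Ideal 𝕊}
    (hq : q ∈ I.minimalPrimes) : q.IsHomogeneous 𝒜 := by
  have hle := Ideal.toIdeal_homogeneousCore_le 𝒜 q
  have h2 : I ≤ (q.homogeneousCore 𝒜).toIdeal :=
    hI.toIdeal_homogeneousCore_eq_self.symm.trans_le (Ideal.homogeneousCore_mono 𝒜 hq.1.2)
  have : q = (q.homogeneousCore 𝒜).toIdeal := le_antisymm (hq.2 ⟨hq.1.1.homogeneousCore, h2⟩ hle) hle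
  rw [this]
  exact HomogeneousIdeal.isHomogeneous _

theorem exists_var_notMem {p : Ideal 𝕊} [hp : p.IsPrime] {N : ℕ} (hdim : ringKrullDim (𝕊 ⧸ p) = (N + 1 : ℕ)) :
    ∃ i, (MvPolynomial.X i : 𝕊) ∉ p := by
  by_contra h
  push Not at h
  let M : Ideal 𝕊 := RingHom.ker (MvPolynomial.constantCoeff : 𝕊 →+* k)
  have hM : M.IsMaximal := RingHom.ker_isMaximal_of_surjective _ fun c => ⟨MvPolynomial.C c, by simp⟩
  have hle : M ≤ p := fun z hz => by
    have hz' : MvPolynomial.constantCoeff z = 0 := hz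
    rw [MvPolynomial.as_sum z]
    refine Ideal.sum_mem _ fun d hd => ?_
    have hd0 : d ≠ 0 := by
      rintro rfl
      exact MvPolynomial.mem_support_iff.1 hd hz'
    obtain ⟨i, hi⟩ := Finsupp.ne_iff.1 hd0
    simp only [Finsupp.coe_zero, Pi.zero_apply] at hi
    rw [MvPolynomial.monomial_eq]
    refine Ideal.mul_mem_left _ _ ?_
    rw [Finsupp.prod, ← Finset.prod_erase_mul _ _ (Finsupp.mem_support_iff.2 hi)]
    exact Ideal.mul_mem_left _ _ (Ideal.pow_mem_of_mem _ (h i) _ (Nat.pos_of_ne_zero hi))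
  haveI : p.IsMaximal := hM.eq_of_le hp.ne_top hle ▸ hM
  rw [ringKrullDim_eq_zero_of_isField ((Ideal.Quotient.maximal_ideal_iff_isField_quotient p).1 ‹_›)] at hdim
  norm_cast at hdim

theorem coeff_sub_comp {P : ℚ[X]} {t : ℕ} (hP : P.natDegree ≤ t + 1) (c : ℚ) :
    (P - P.comp (X - C c)).coeff t = (t + 1) * c * P.coeff (t + 1) := by
  let R := P - C (P.coeff (t + 1)) * X ^ (t + 1)
  have hR : R.natDegree ≤ t := by
    rw [natDegree_le_iff_coeff_eq_zero]
    intro j hj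
    rcases eq_or_lt_of_le (Nat.succ_le_of_lt hj) with rfl | hj'
    · simp [R]
    · simp [R, coeff_eq_zero_of_natDegree_lt (show P.natDegree < j by omega), (show j ≠ t + 1 by omega)]
  have hRc : (R - R.comp (X - C c)).coeff t = 0 := by
    rcases t with _ | t
    · rw [H05EGA4.Samuel.sub_comp_eq_zero (Nat.le_zero.1 hR), coeff_zero]
    · exact coeff_eq_zero_of_natDegree_lt (lt_of_le_of_lt (H05EGA4.Samuel.natDegree_sub_comp_le hR c) t.lt_succ_self)
  have hsplit : P - P.comp (X - C c) =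
      (R - R.comp (X - C c)) + C (P.coeff (t + 1)) * (X ^ (t + 1) - (X - C c) ^ (t + 1)) := by
    simp only [R, sub_comp, mul_comp, pow_comp, C_comp, X_comp]
    ring
  rw [hsplit, coeff_add, hRc, coeff_C_mul, coeff_sub, coeff_X_pow, if_neg (Nat.ne_of_lt t.lt_succ_self),
    sub_eq_add_neg X (C c), ← C_neg, coeff_X_add_C_pow, Nat.choose_succ_self_right, Nat.add_sub_cancel_left, pow_one]
  push_cast
  ring

theorem degree_comp_X_sub_C (P : ℚ[X]) (c : ℚ) : (P.comp (X - C c)).degree = P.degree := by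
  rcases eq_or_ne P 0 with rfl | hP
  · simp
  · have h : P.comp (X - C c) ≠ 0 := fun h0 => by
      rcases comp_eq_zero_iff.1 h0 with h1 | ⟨-, h2⟩
      · exact hP h1
      · have := congrArg natDegree h2
        simp at this
    rw [degree_eq_natDegree hP, degree_eq_natDegree h, natDegree_comp, natDegree_X_sub_C, mul_one]

theorem coeff_comp_X_sub_C {P : ℚ[X]} {N : ℕ} (hP : P.degree < (N + 1 : ℕ)) (c : ℚ) :
    (P.comp (X - C c)).coeff N = P.coeff N := by
  have hN : P.natDegree ≤ N := natDegree_le_iff_coeff_eq_zero.2 fun j hj =>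
    coeff_eq_zero_of_degree_lt (lt_of_lt_of_le hP (by exact_mod_cast (show N + 1 ≤ j by omega)))
  have h0 : (P - P.comp (X - C c)).coeff N = 0 := by
    rcases N with _ | M
    · rw [H05EGA4.Samuel.sub_comp_eq_zero (Nat.le_zero.1 hN), coeff_zero]
    · exact coeff_eq_zero_of_natDegree_lt (lt_of_le_of_lt (H05EGA4.Samuel.natDegree_sub_comp_le hN c) M.lt_succ_self)
  rw [coeff_sub] at h0
  linarith

/-- What is to be proved of a homogeneous prime. -/
def Good (p : Ideal 𝕊) : Prop :=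
  ∀ s : ℕ, ringKrullDim (𝕊 ⧸ p) = s →
    ∃ P : ℚ[X], IsHilb p P ∧ P.degree < (s : ℕ) ∧ ∀ N, s = N + 1 → 0 < P.coeff N

theorem exists_hilb_of_good (D : ℕ) (I : Ideal 𝕊) (hI : I.IsHomogeneous 𝒜)
    (hle : ∀ q : Ideal 𝕊, q.IsPrime → I ≤ q → ringKrullDim (𝕊 ⧸ q) ≤ (D : ℕ))
    (hgood : ∀ q : Ideal 𝕊, q.IsPrime → q.IsHomogeneous 𝒜 → I ≤ q → Good q) :
    ∃ P : ℚ[X], IsHilb I P ∧ P.degree < (D : ℕ) ∧ ∀ N, D = N + 1 → 0 ≤ P.coeff N ∧
      ((∃ q : Ideal 𝕊, q.IsPrime ∧ I ≤ q ∧ ringKrullDim (𝕊 ⧸ q) = (D : ℕ)) → 0 < P.coeff N) := by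
  revert hle hgood
  refine induction_hom (C := fun I => (∀ q : Ideal 𝕊, q.IsPrime → I ≤ q → ringKrullDim (𝕊 ⧸ q) ≤ (D : ℕ)) →
    (∀ q : Ideal 𝕊, q.IsPrime → q.IsHomogeneous 𝒜 → I ≤ q → Good q) →
    ∃ P : ℚ[X], IsHilb I P ∧ P.degree < (D : ℕ) ∧ ∀ N, D = N + 1 → 0 ≤ P.coeff N ∧
      ((∃ q : Ideal 𝕊, q.IsPrime ∧ I ≤ q ∧ ringKrullDim (𝕊 ⧸ q) = (D : ℕ)) → 0 < P.coeff N)) ?_ ?_ I hI
  · intro _ _
    refine ⟨0, ⟨0, fun m _ => by rw [eval_zero, hfun_eq_zero fun z _ => Submodule.mem_top]⟩,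
      by simp, fun N _ => ⟨by simp, ?_⟩⟩
    rintro ⟨q, hq, hle, -⟩
    exact absurd (top_le_iff.1 hle) hq.ne_top
  intro I g e hI hg _ hp ih hle hgood
  obtain ⟨PJ, ⟨mJ, hPJ⟩, hdJ, hcJ⟩ := ih (fun q hq h => hle q hq (le_sup_left.trans h))
    fun q hq hqh h => hgood q hq hqh (le_sup_left.trans h)
  let p := I.colon {g}
  have hIp : I ≤ p := fun z hz => Submodule.mem_colon_singleton.2 (I.mul_mem_right _ hz)
  obtain ⟨s, hs⟩ := exists_dim (k := k) p
  obtain ⟨Pp, ⟨mp, hPp⟩, hdp, hcp⟩ := hgood p hp (isHomogeneous_colon hI hg) hIp s hs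
  have hsD : s ≤ D := by
    have := hle p hp hIp
    rw [hs] at this
    exact_mod_cast this
  have hdp' : Pp.degree < (D : ℕ) := lt_of_lt_of_le hdp (by exact_mod_cast hsD)
  refine ⟨PJ + Pp.comp (X - C (e : ℚ)), ⟨mJ + mp + e, fun m hm => ?_⟩,
    lt_of_le_of_lt (degree_add_le _ _) (max_lt hdJ (by rwa [degree_comp_X_sub_C])), fun N hN => ?_⟩
  · obtain ⟨i, rfl⟩ := Nat.exists_eq_add_of_le' (show e ≤ m by omega)
    rw [eval_add, eval_comp, hPJ _ (by omega), hfun_sup_span hI hg, eval_sub, eval_X, eval_C]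
    rw [show ((i + e : ℕ) : ℚ) - (e : ℚ) = (i : ℚ) by push_cast; ring, hPp _ (by omega)]
    ring
  · have hc : (Pp.comp (X - C (e : ℚ))).coeff N = Pp.coeff N := coeff_comp_X_sub_C (hN ▸ hdp') _
    have hcp0 : 0 ≤ Pp.coeff N := by
      rcases eq_or_lt_of_le hsD with rfl | hlt
      · exact (hcp N hN).le
      · refine le_of_eq (coeff_eq_zero_of_degree_lt (lt_of_lt_of_le hdp ?_)).symm
        exact_mod_cast (show s ≤ N by omega)
    rw [coeff_add, hc]
    refine ⟨add_nonneg (hcJ N hN).1 hcp0, ?_⟩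
    rintro ⟨q, hq, hIq, hqd⟩
    haveI := hq
    by_cases hgq : g ∈ q
    · exact add_pos_of_pos_of_nonneg
        ((hcJ N hN).2 ⟨q, hq, sup_le hIq ((Ideal.span_singleton_le_iff_mem _).2 hgq), hqd⟩) hcp0
    · have hpq : p ≤ q := fun z hz => (hq.mem_or_mem (hIq (Submodule.mem_colon_singleton.1 hz))).resolve_right hgq
      haveI := hp
      have h1 := dim_mono hpq
      rw [hqd, hs] at h1
      have : s = D := le_antisymm hsD (by exact_mod_cast h1)
      exact add_pos_of_nonneg_of_pos (hcJ N hN).1 (hcp N (this.trans hN))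

/-- A component of a hypersurface section has codimension one. -/
theorem dim_of_minimal_sup_span {p : Ideal 𝕊} [hp : p.IsPrime] {x : 𝕊} (hi : x ∉ p) {q : Ideal 𝕊}
    (hq : q ∈ (p ⊔ Ideal.span {x}).minimalPrimes) {N : ℕ} (hs : ringKrullDim (𝕊 ⧸ p) = (N + 1 : ℕ)) :
    ringKrullDim (𝕊 ⧸ q) = (N : ℕ) := by
  have hq' := hq.1.1
  haveI : Algebra.FiniteType k (𝕊 ⧸ p) :=
    Algebra.FiniteType.trans (R := k) (S := 𝕊) inferInstance inferInstance
  let π := Ideal.Quotient.mk p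
  let q' := q.map π
  have hpq : p ≤ q := le_sup_left.trans hq.1.2
  have hker : RingHom.ker π ≤ q := by rw [Ideal.mk_ker]; exact hpq
  haveI : q'.IsPrime := Ideal.map_isPrime_of_surjective Ideal.Quotient.mk_surjective hker
  have hcq : q'.comap π = q := by
    rw [Ideal.comap_map_of_surjective π Ideal.Quotient.mk_surjective, ← RingHom.ker_eq_comap_bot]
    exact sup_eq_left.2 hker
  have hx0 : π x ≠ 0 := fun h => hi (Ideal.Quotient.eq_zero_iff_mem.1 h)
  have hxq : π x ∈ q' := Ideal.mem_map_of_mem π (hq.1.2 (Ideal.mem_sup_right (Ideal.mem_span_singleton_self _)))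
  have hmin : q' ∈ (Ideal.span {π x}).minimalPrimes := by
    refine ⟨⟨inferInstance, (Ideal.span_singleton_le_iff_mem _).2 hxq⟩, ?_⟩
    rintro Q ⟨hQ, hQx⟩ hQle
    have hQc : q ≤ Q.comap π := hq.2
      ⟨hQ.comap π, sup_le (fun z hz => by
        show π z ∈ Q
        rw [Ideal.Quotient.eq_zero_iff_mem.2 hz]; exact zero_mem _)
        ((Ideal.span_singleton_le_iff_mem _).2 (hQx (Ideal.mem_span_singleton_self _)))⟩
      (hcq ▸ Ideal.comap_mono hQle)
    exact Ideal.map_le_iff_le_comap.2 hQc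
  have h2 : q'.height = 1 := by
    refine le_antisymm ?_ ?_
    · haveI : (Ideal.span {π x}).IsPrincipal := ⟨⟨π x, rfl⟩⟩
      exact Ideal.height_le_one_of_isPrincipal_of_mem_minimalPrimes _ _ hmin
    · refine Order.one_le_iff_ne_zero.2 fun h0 => ?_
      have h0' : q' = ⊥ := Ideal.height_eq_zero_iff_eq_bot.1 h0
      rw [h0'] at hxq
      exact hx0 hxq
  have h3 := H8Props.FieldDim.height_add_dim_quotient (k := k) (𝕊 ⧸ p) q'
  rw [h2, hs] at h3
  obtain ⟨t, ht⟩ := exists_dim (k := k) q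
  have e : ringKrullDim ((𝕊 ⧸ p) ⧸ q') = ringKrullDim (𝕊 ⧸ q) :=
    ringKrullDim_eq_of_ringEquiv ((DoubleQuot.quotQuotEquivQuotSup p q).trans
      (Ideal.quotEquivOfEq (sup_eq_right.2 hpq)))
  rw [e, ht] at h3
  rw [ht]
  norm_cast at h3 ⊢
  omega

/-- A homogeneous ideal plus forms of positive degree is proper. -/
theorem sup_span_ne_top {p : Ideal 𝕊} (hp : p ≠ ⊤) (hph : p.IsHomogeneous 𝒜) {x : 𝕊} {d : ℕ} (hd : 0 < d)
    (hx : x ∈ 𝒜 d) : p ⊔ Ideal.span {x} ≠ ⊤ := fun hJ => by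
  obtain ⟨a, ha, b, hb, hab⟩ := Submodule.mem_sup.1 (show (1 : 𝕊) ∈ p ⊔ Ideal.span _ from hJ ▸ Submodule.mem_top)
  obtain ⟨c, rfl⟩ := Ideal.mem_span_singleton'.1 hb
  have h0 := congrArg (fun z => (DirectSum.decompose 𝒜 z 0 : 𝕊)) hab
  simp only [DirectSum.decompose_add, DirectSum.add_apply, Submodule.coe_add,
    DirectSum.coe_decompose_mul_of_right_mem_of_not_le 𝒜 hx (not_le.2 hd),
    add_zero, DirectSum.decompose_of_mem_same 𝒜 (SetLike.one_mem_graded 𝒜)] at h0
  exact hp ((Ideal.eq_top_iff_one _).2 (h0 ▸ hph 0 ha))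

theorem good (p : Ideal 𝕊) [hp : p.IsPrime] (hph : p.IsHomogeneous 𝒜) : Good p := by
  intro s
  induction s using Nat.strong_induction_on generalizing p with
  | _ s ih =>
    intro hs
    rcases s with _ | N
    · refine ⟨0, ⟨1, fun m hm => ?_⟩, by simp, fun N hN => absurd hN N.succ_ne_zero.symm⟩
      rw [eval_zero, hfun_eq_zero fun z hz => ?_]
      have hX : ∀ i, (MvPolynomial.X i : 𝕊) ∈ p := fun i => by
        by_contra hi
        let J := p ⊔ Ideal.span {(MvPolynomial.X i : 𝕊)}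
        have hJ : J ≠ ⊤ := fun hJ => by
          obtain ⟨a, ha, b, hb, hab⟩ := Submodule.mem_sup.1 (show (1 : 𝕊) ∈ p ⊔ Ideal.span _ from hJ ▸ Submodule.mem_top)
          obtain ⟨c, rfl⟩ := Ideal.mem_span_singleton'.1 hb
          have h0 := congrArg (fun z => (DirectSum.decompose 𝒜 z 0 : 𝕊)) hab
          simp only [DirectSum.decompose_add, DirectSum.add_apply, Submodule.coe_add,
            DirectSum.coe_decompose_mul_of_right_mem_of_not_le 𝒜 (MvPolynomial.isHomogeneous_X k i) (Nat.not_succ_le_zero 0),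
            add_zero, DirectSum.decompose_of_mem_same 𝒜 (SetLike.one_mem_graded 𝒜)] at h0
          exact hp.ne_top ((Ideal.eq_top_iff_one _).2 (h0 ▸ hph 0 ha))
        obtain ⟨q, hq, hJq⟩ := Ideal.exists_le_maximal J hJ
        haveI := hq.isPrime
        obtain ⟨t, ht⟩ := exists_dim (k := k) q
        exact absurd (dim_lt (lt_of_le_of_ne (le_sup_left.trans hJq) fun e =>
          hi (e ▸ hJq (Ideal.mem_sup_right (Ideal.mem_span_singleton_self _)))) hs ht) t.not_lt_zero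
      rw [MvPolynomial.as_sum z]
      refine Ideal.sum_mem _ fun d hd => ?_
      have hd0 : d ≠ 0 := by
        rintro rfl
        have := (MvPolynomial.mem_homogeneousSubmodule _ _).1 hz (MvPolynomial.mem_support_iff.1 hd)
        simp at this
        omega
      obtain ⟨i, hi⟩ := Finsupp.ne_iff.1 hd0
      simp only [Finsupp.coe_zero, Pi.zero_apply] at hi
      rw [MvPolynomial.monomial_eq]
      refine Ideal.mul_mem_left _ _ ?_
      rw [Finsupp.prod, ← Finset.prod_erase_mul _ _ (Finsupp.mem_support_iff.2 hi)]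
      exact Ideal.mul_mem_left _ _ (Ideal.pow_mem_of_mem _ (hX i) _ (Nat.pos_of_ne_zero hi))
    · obtain ⟨i, hi⟩ := exists_var_notMem hs
      let x : 𝕊 := MvPolynomial.X i
      have hx : x ∈ 𝒜 1 := MvPolynomial.isHomogeneous_X k i
      let J := p ⊔ Ideal.span {x}
      have hJh : J.IsHomogeneous 𝒜 := isHomogeneous_sup_span hph hx
      have hlt : ∀ q : Ideal 𝕊, q.IsPrime → J ≤ q → ∀ t : ℕ, ringKrullDim (𝕊 ⧸ q) = t → t < N + 1 := fun q hq h t ht =>
        haveI := hq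
        dim_lt (lt_of_le_of_ne (le_sup_left.trans h) fun e => hi (e ▸ h (Ideal.mem_sup_right (Ideal.mem_span_singleton_self _))))
          hs ht
      obtain ⟨PJ, ⟨mJ, hPJ⟩, hdJ, hcJ⟩ := exists_hilb_of_good N J hJh
        (fun q hq h => by
          haveI := hq
          obtain ⟨t, ht⟩ := exists_dim (k := k) q
          rw [ht]; exact_mod_cast Nat.lt_succ_iff.1 (hlt q hq h t ht))
        (fun q hq hqh h t ht => ih t (hlt q hq h t ht) q hqh ht)
      have hcolon : p.colon {x} = p := le_antisymm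
        (fun z hz => (hp.mem_or_mem (Submodule.mem_colon_singleton.1 hz)).resolve_right hi)
        fun z hz => Submodule.mem_colon_singleton.2 (p.mul_mem_right _ hz)
      have hrec : ∀ m, hfun p (m + 1) - hfun p m = hfun J (m + 1) := fun m => by
        rw [hfun_sup_span hph hx, hcolon]
      obtain ⟨P, hP⟩ := H05EGA4.Samuel.exists_polynomial_of_diff (f := hfun p) (Q := PJ.comp (X + 1))
        (eventually_atTop.2 ⟨mJ, fun m hm => by
          rw [hrec, eval_comp, eval_add, eval_X, eval_one, ← hPJ _ (by omega)]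
          push_cast; rfl⟩)
      obtain ⟨mP, hmP⟩ := eventually_atTop.1 hP
      have hdiff : P - P.comp (X - C 1) = PJ := by
        refine sub_eq_zero.1 (H05EGA4.Samuel.eq_zero_of_eventually (eventually_atTop.2 ⟨mP + mJ + 1, fun m hm => ?_⟩))
        obtain ⟨j, rfl⟩ := Nat.exists_eq_add_of_le' (show 1 ≤ m by omega)
        rw [eval_sub, eval_sub, eval_comp, eval_sub, eval_X, eval_C, hPJ _ (by omega), ← hrec,
          ← hmP _ (by omega), show ((j + 1 : ℕ) : ℚ) - 1 = (j : ℚ) by push_cast; ring, ← hmP _ (by omega)]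
        ring
      have hNdeg : P.natDegree ≤ N := by
        by_contra hlt'
        obtain ⟨t, ht⟩ := Nat.exists_eq_succ_of_ne_zero (show P.natDegree ≠ 0 by omega)
        have h1 := coeff_sub_comp (t := t) (le_of_eq ht) 1
        rw [hdiff, coeff_eq_zero_of_degree_lt (lt_of_lt_of_le hdJ (by exact_mod_cast (show N ≤ t by omega)))] at h1
        have h2 : P.leadingCoeff ≠ 0 := leadingCoeff_ne_zero.2 fun h0 => by simp [h0] at ht
        rw [leadingCoeff, ht] at h2
        rcases mul_eq_zero.1 h1.symm with h3 | h3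
        · rcases mul_eq_zero.1 h3 with h4 | h4
          · exact absurd h4 (by positivity)
          · exact one_ne_zero h4
        · exact h2 h3
      have hdeg : P.degree < (N + 1 : ℕ) :=
        lt_of_le_of_lt degree_le_natDegree (by exact_mod_cast Nat.lt_succ_of_le hNdeg)
      refine ⟨P, ⟨mP, fun m hm => (hmP m hm).symm⟩, hdeg, fun M hM => ?_⟩
      obtain rfl : N = M := by omega
      rcases N with _ | N
      · have hPC : P = C (P.coeff 0) := eq_C_of_natDegree_le_zero hNdeg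
        have h1 := (hmP mP le_rfl) ▸ (one_le_hfun (m := mP) (z := x ^ mP)
          (by simpa using SetLike.pow_mem_graded mP hx) fun h => hi (hp.mem_of_pow_mem mP h))
        rw [hPC, eval_C] at h1
        linarith
      · obtain ⟨hJne, q, hq⟩ : J ≠ ⊤ ∧ ∃ q, q ∈ J.minimalPrimes := by
          have hJ : J ≠ ⊤ := fun hJ => by
            obtain ⟨a, ha, b, hb, hab⟩ := Submodule.mem_sup.1 (show (1 : 𝕊) ∈ p ⊔ Ideal.span _ from hJ ▸ Submodule.mem_top)
            obtain ⟨c, rfl⟩ := Ideal.mem_span_singleton'.1 hb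
            have h0 := congrArg (fun z => (DirectSum.decompose 𝒜 z 0 : 𝕊)) hab
            simp only [DirectSum.decompose_add, DirectSum.add_apply, Submodule.coe_add,
              DirectSum.coe_decompose_mul_of_right_mem_of_not_le 𝒜 hx (Nat.not_succ_le_zero 0),
              add_zero, DirectSum.decompose_of_mem_same 𝒜 (SetLike.one_mem_graded 𝒜)] at h0
            exact hp.ne_top ((Ideal.eq_top_iff_one _).2 (h0 ▸ hph 0 ha))
          exact ⟨hJ, (Ideal.nonempty_minimalPrimes hJ).elim fun q => ⟨q.1, q.2⟩⟩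
        have hq' := hq.1.1
        have h1 := (hcJ N rfl).2 ⟨q, hq', hq.1.2, ?_⟩
        · rw [← hdiff, coeff_sub_comp hNdeg] at h1
          exact pos_of_mul_pos_right (by simpa using h1) (by positivity)
        · exact dim_of_minimal_sup_span hi hq hs

theorem exists_hilb (D : ℕ) (I : Ideal 𝕊) (hI : I.IsHomogeneous 𝒜)
    (hle : ∀ q : Ideal 𝕊, q.IsPrime → I ≤ q → ringKrullDim (𝕊 ⧸ q) ≤ (D : ℕ)) :
    ∃ P : ℚ[X], IsHilb I P ∧ P.degree < (D : ℕ) ∧ ∀ N, D = N + 1 → 0 ≤ P.coeff N ∧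
      ((∃ q : Ideal 𝕊, q.IsPrime ∧ I ≤ q ∧ ringKrullDim (𝕊 ⧸ q) = (D : ℕ)) → 0 < P.coeff N) :=
  exists_hilb_of_good D I hI hle fun q hq hqh _ => haveI := hq; good q hqh

theorem ringKrullDim_quotient_le {R : Type u} [CommRing R] (I : Ideal R) {D : WithBot ℕ∞}
    (h : ∀ q : Ideal R, q.IsPrime → I ≤ q → ringKrullDim (R ⧸ q) ≤ D) : ringKrullDim (R ⧸ I) ≤ D := by
  rw [ringKrullDim_quotient, Order.krullDim]
  refine iSup_le fun l => ?_
  refine le_trans ?_ (h l.head.1.asIdeal l.head.1.isPrime l.head.2)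
  rw [ringKrullDim_quotient]
  let l' : LTSeries (PrimeSpectrum.zeroLocus (l.head.1.asIdeal : Set R)) :=
    LTSeries.mk l.length (fun i => ⟨(l i).1, show l.head.1.asIdeal ≤ (l i).1.asIdeal from
      Subtype.coe_le_coe.2 (l.head_le i)⟩) fun a b hab => l.strictMono hab
  exact Order.LTSeries.length_le_krullDim l'

theorem dim_le_of_le {I q : Ideal 𝕊} (h : I ≤ q) : ringKrullDim (𝕊 ⧸ q) ≤ ringKrullDim (𝕊 ⧸ I) :=
  ringKrullDim_le_of_surjective _ (Ideal.Quotient.factor_surjective h)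

/-- `dim S/I` is attained at a minimal prime. -/
theorem exists_dim_attained {I : Ideal 𝕊} (hI : I ≠ ⊤) :
    ∃ D : ℕ, ringKrullDim (𝕊 ⧸ I) = D ∧ ∃ q : Ideal 𝕊, q ∈ I.minimalPrimes ∧ ringKrullDim (𝕊 ⧸ q) = D := by
  classical
  obtain ⟨q₀, hq₀⟩ := (Ideal.nonempty_minimalPrimes hI).elim fun q => (⟨q.1, q.2⟩ : ∃ q, q ∈ I.minimalPrimes)
  let T := (Ideal.finite_minimalPrimes_of_isNoetherianRing 𝕊 I).toFinset
  let δ : Ideal 𝕊 → ℕ := fun q => if h : q.IsPrime then (haveI := h; exists_dim (k := k) q).choose else 0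
  have hδ : ∀ q : Ideal 𝕊, q.IsPrime → ringKrullDim (𝕊 ⧸ q) = δ q := fun q hq => by
    haveI := hq
    simp only [δ, dif_pos hq]
    exact (exists_dim (k := k) q).choose_spec
  obtain ⟨q, hqT, hmax⟩ := T.exists_max_image δ ⟨q₀, by simpa [T] using hq₀⟩
  have hq : q ∈ I.minimalPrimes := by simpa [T] using hqT
  refine ⟨δ q, le_antisymm (ringKrullDim_quotient_le I fun r hr hIr => ?_) ?_, q, hq, hδ q hq.1.1⟩
  · haveI := hr
    obtain ⟨r', hr', hle⟩ := Ideal.exists_minimalPrimes_le hIr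
    haveI := hr'.1.1
    refine (dim_mono hle).trans ?_
    rw [hδ r' hr'.1.1]
    exact_mod_cast hmax r' (by simpa [T] using hr')
  · rw [← hδ q hq.1.1]; exact dim_le_of_le hq.1.2

/-- The Hilbert polynomial has degree `dim - 1`. -/
theorem hilb_spec {I : Ideal 𝕊} (hI : I.IsHomogeneous 𝒜) (htop : I ≠ ⊤) {P : ℚ[X]} (hP : IsHilb I P) :
    ∃ D : ℕ, ringKrullDim (𝕊 ⧸ I) = D ∧ (D = 0 → P = 0) ∧
      ∀ N, D = N + 1 → P.natDegree = N ∧ 0 < P.leadingCoeff := by
  obtain ⟨D, hD, q, hq, hqD⟩ := exists_dim_attained htop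
  obtain ⟨P', hP', hdeg, hc⟩ := exists_hilb D I hI fun r hr h => (dim_le_of_le h).trans hD.le
  obtain rfl := hP.unique hP'
  refine ⟨D, hD, fun h0 => ?_, fun N hN => ?_⟩
  · subst h0
    exact degree_eq_bot.1 (by
      rcases h : P.degree with _ | d
      · rfl
      · rw [h] at hdeg; exact absurd hdeg (by simp))
  · have hpos := (hc N hN).2 ⟨q, hq.1.1, hq.1.2, hqD⟩
    have hle : P.natDegree ≤ N := natDegree_le_iff_coeff_eq_zero.2 fun j hj =>
      coeff_eq_zero_of_degree_lt (lt_of_lt_of_le hdeg (by exact_mod_cast (show D ≤ j by omega)))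
    have heq : P.natDegree = N := le_antisymm hle (le_natDegree_of_ne_zero hpos.ne')
    exact ⟨heq, by rwa [leadingCoeff, heq]⟩

/-- The multiplicity of `q` in `S / I`. -/
def mult (I q : Ideal 𝕊) [q.IsPrime] : ℕ :=
  (Module.length (Localization.AtPrime q) (LocalizedModule q.primeCompl (𝕊 ⧸ I))).toNat

theorem mult_eq_zero {I q : Ideal 𝕊} [hq : q.IsPrime] (h : ¬ I ≤ q) : mult I q = 0 := by
  have hsub : Subsingleton (LocalizedModule q.primeCompl (𝕊 ⧸ I)) :=
    (Module.notMem_support_iff (p := ⟨q, hq⟩)).1 fun h' => h (by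
      simpa [Module.mem_support_iff_of_finite, Ideal.annihilator_quotient] using h')
  simp [mult]

theorem mult_self (q : Ideal 𝕊) [hq : q.IsPrime] : mult q q = 1 := by
  have h := H22Alg.locLenAt_quotient_self (A := 𝕊) ⟨q, hq⟩
  simp only [H22Alg.locLenAt] at h
  exact_mod_cast h

theorem mult_sup_span {I q : Ideal 𝕊} [hq : q.IsPrime] (g : 𝕊)
    (hmin : ∀ r : Ideal 𝕊, r.IsPrime → I ≤ r → r ≤ q → r = q) :
    mult I q = mult (I.colon {g}) q + mult (I ⊔ Ideal.span {g}) q := by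
  let p := I.colon {g}
  let f : (𝕊 ⧸ p) →ₗ[𝕊] 𝕊 ⧸ I := Submodule.liftQ p ((Submodule.mkQ I) ∘ₗ LinearMap.toSpanSingleton 𝕊 𝕊 g)
    fun z hz => (Submodule.Quotient.mk_eq_zero _).2 (Submodule.mem_colon_singleton.1 hz)
  let g' : (𝕊 ⧸ I) →ₗ[𝕊] 𝕊 ⧸ (I ⊔ Ideal.span {g}) := Submodule.factor le_sup_left
  have hf : Function.Injective f := by
    rw [injective_iff_map_eq_zero]
    intro z hz
    obtain ⟨z, rfl⟩ := Submodule.Quotient.mk_surjective _ z
    exact (Submodule.Quotient.mk_eq_zero _).2 (Submodule.mem_colon_singleton.2 ((Submodule.Quotient.mk_eq_zero _).1 hz))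
  have hex : Function.Exact f g' := fun z => by
    obtain ⟨z, rfl⟩ := Submodule.Quotient.mk_surjective _ z
    constructor
    · intro hz
      obtain ⟨a, ha, b, hb, e⟩ := Submodule.mem_sup.1 ((Submodule.Quotient.mk_eq_zero _).1 hz)
      obtain ⟨c, rfl⟩ := Ideal.mem_span_singleton'.1 hb
      refine ⟨Submodule.Quotient.mk c, (Submodule.Quotient.eq _).2 ?_⟩
      have e' : a + c * g = z := e
      rw [← e']
      simpa using neg_mem ha
    · rintro ⟨c, hc⟩
      obtain ⟨c, rfl⟩ := Submodule.Quotient.mk_surjective _ c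
      rw [← hc]
      exact (Submodule.Quotient.mk_eq_zero _).2 (Ideal.mem_sup_right (Ideal.mem_span_singleton'.2 ⟨c, rfl⟩))
  have h := H22Alg.locLenAt_add f g' hf (Submodule.factor_surjective _) hex (⟨q, hq⟩ : PrimeSpectrum 𝕊)
    fun r hr hrq => PrimeSpectrum.ext (hmin r.asIdeal r.isPrime (by
      simpa [Module.mem_support_iff_of_finite, Ideal.annihilator_quotient] using hr) hrq)
  simp only [H22Alg.locLenAt] at h
  exact_mod_cast h

/-- The top coefficient is the sum of multiplicity times top coefficient over the components of top dimension. -/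
theorem coeff_eq_sum (N : ℕ) (I : Ideal 𝕊) (hI : I.IsHomogeneous 𝒜)
    (hle : ∀ q : Ideal 𝕊, q.IsPrime → I ≤ q → ringKrullDim (𝕊 ⧸ q) ≤ (N + 1 : ℕ))
    {ι : Type*} [Fintype ι] (p : ι → Ideal 𝕊) [hp : ∀ i, (p i).IsPrime] (hinj : Function.Injective p)
    (hpd : ∀ i, ringKrullDim (𝕊 ⧸ p i) = (N + 1 : ℕ))
    (hall : ∀ q : Ideal 𝕊, q.IsPrime → I ≤ q → ringKrullDim (𝕊 ⧸ q) = (N + 1 : ℕ) → ∃ i, q = p i)
    (Q : ι → ℚ[X]) (hQ : ∀ i, IsHilb (p i) (Q i)) {P : ℚ[X]} (hP : IsHilb I P) :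
    P.coeff N = ∑ i, (mult I (p i) : ℚ) * (Q i).coeff N := by
  revert hle hall P
  refine induction_hom (C := fun I => (∀ q : Ideal 𝕊, q.IsPrime → I ≤ q → ringKrullDim (𝕊 ⧸ q) ≤ (N + 1 : ℕ)) →
    (∀ q : Ideal 𝕊, q.IsPrime → I ≤ q → ringKrullDim (𝕊 ⧸ q) = (N + 1 : ℕ) → ∃ i, q = p i) →
    ∀ {P : ℚ[X]}, IsHilb I P → P.coeff N = ∑ i, (mult I (p i) : ℚ) * (Q i).coeff N) ?_ ?_ I hI
  · intro _ _ P hP
    rw [hP.unique (Q := 0) ⟨0, fun m _ => by rw [eval_zero, hfun_eq_zero fun z _ => Submodule.mem_top]⟩, coeff_zero]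
    refine (Finset.sum_eq_zero fun i _ => ?_).symm
    rw [mult_eq_zero fun h => (hp i).ne_top (top_le_iff.1 h), Nat.cast_zero, zero_mul]
  intro I g e hI hg _ hc ih hle hall P hP
  let c := I.colon {g}
  have hIc : I ≤ c := fun z hz => Submodule.mem_colon_singleton.2 (I.mul_mem_right _ hz)
  obtain ⟨PJ, hPJ, hdJ, -⟩ := exists_hilb (N + 1) _ (isHomogeneous_sup_span hI hg)
    fun q hq h => hle q hq (le_sup_left.trans h)
  have hJ := ih (fun q hq h => hle q hq (le_sup_left.trans h)) (fun q hq h => hall q hq (le_sup_left.trans h)) hPJ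
  obtain ⟨Pc, hPc, hdc, -⟩ := exists_hilb (N + 1) c (isHomogeneous_colon hI hg)
    fun q hq h => hle q hq (hIc.trans h)
  obtain ⟨mJ, hmJ⟩ := hPJ
  obtain ⟨mc, hmc⟩ := hPc
  have hsum : IsHilb I (PJ + Pc.comp (X - C (e : ℚ))) := ⟨mJ + mc + e, fun m hm => by
    obtain ⟨i, rfl⟩ := Nat.exists_eq_add_of_le' (show e ≤ m by omega)
    rw [eval_add, eval_comp, hmJ _ (by omega), hfun_sup_span hI hg, eval_sub, eval_X, eval_C,
      show ((i + e : ℕ) : ℚ) - (e : ℚ) = (i : ℚ) by push_cast; ring, hmc _ (by omega)]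
    ring⟩
  rw [hP.unique hsum, coeff_add, coeff_comp_X_sub_C hdc, hJ]
  have hmult : ∀ i, (mult I (p i) : ℚ) = mult c (p i) + mult (I ⊔ Ideal.span {g}) (p i) := fun i => by
    have h := mult_sup_span (I := I) (q := p i) g fun r hr hIr hrp => by
      by_contra hne
      haveI := hr
      obtain ⟨t, ht⟩ := exists_dim (k := k) r
      have h1 := dim_lt (lt_of_le_of_ne hrp hne) ht (hpd i)
      have h2 := hle r hr hIr
      rw [ht] at h2
      norm_cast at h2
      omega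
    exact_mod_cast h
  simp only [hmult, add_mul, Finset.sum_add_distrib]
  rw [add_comm]
  congr 1
  haveI := hc
  obtain ⟨s, hs⟩ := exists_dim (k := k) c
  by_cases hsN : s = N + 1
  · obtain ⟨i₀, hi₀⟩ := hall c hc hIc (hsN ▸ hs)
    rw [Finset.sum_eq_single i₀]
    · have h1 : mult c (p i₀) = 1 := by
        rw [show c = p i₀ from hi₀]
        exact mult_self (p i₀)
      rw [h1, Nat.cast_one, one_mul, (show IsHilb c Pc from ⟨mc, hmc⟩).unique (hi₀ ▸ hQ i₀)]
    · intro i _ hi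
      rw [mult_eq_zero fun h => hi ?_, Nat.cast_zero, zero_mul]
      rcases h.lt_or_eq with hlt | heq
      · exact absurd (dim_lt hlt (hsN ▸ hs) (hpd i)) (lt_irrefl _)
      · exact hinj (heq.symm.trans hi₀)
    · intro h; exact absurd (Finset.mem_univ i₀) h
  · obtain ⟨P', hP', hdeg, -⟩ := exists_hilb s c (isHomogeneous_colon hI hg) fun q hq h => by
      haveI := hq
      exact (dim_mono h).trans hs.le
    have hsN' : s ≤ N := by
      have := hle c hc hIc
      rw [hs] at this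
      norm_cast at this
      omega
    rw [(show IsHilb c Pc from ⟨mc, hmc⟩).unique hP', coeff_eq_zero_of_degree_lt (lt_of_lt_of_le hdeg
      (by exact_mod_cast hsN'))]
    refine (Finset.sum_eq_zero fun i _ => ?_).symm
    rw [mult_eq_zero fun h => ?_, Nat.cast_zero, zero_mul]
    have h1 := dim_mono h
    rw [hs, hpd i] at h1
    norm_cast at h1
    omega

/-- Degree as the sum over the top dimensional components. -/
theorem degree_formula {I : Ideal 𝕊} (hI : I.IsHomogeneous 𝒜) {P : ℚ[X]} (hP : IsHilb I P)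
    {r : ℕ} (p : Fin r → Ideal 𝕊) [hp : ∀ i, (p i).IsPrime] (hinj : Function.Injective p)
    (hmin : ∀ q : Ideal 𝕊, q ∈ I.minimalPrimes ↔ ∃ i, q = p i)
    (Q : Fin r → ℚ[X]) (hQ : ∀ i, IsHilb (p i) (Q i)) :
    (P.natDegree.factorial : ℚ) * P.leadingCoeff =
      ∑ i, if (Q i).natDegree = P.natDegree then
        ((Q i).natDegree.factorial : ℚ) * (Q i).leadingCoeff * (mult I (p i) : ℚ) else 0 := by
  classical
  by_cases htop : I = ⊤
  · subst htop
    have hr : IsEmpty (Fin r) := ⟨fun i => (hp i).ne_top (top_le_iff.1 ((hmin (p i)).2 ⟨i, rfl⟩).1.2)⟩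
    rw [hP.unique (Q := 0) ⟨0, fun m _ => by rw [eval_zero, hfun_eq_zero fun z _ => Submodule.mem_top]⟩]
    simp
  have hpI : ∀ i, I ≤ p i := fun i => ((hmin (p i)).2 ⟨i, rfl⟩).1.2
  have hph : ∀ i, (p i).IsHomogeneous 𝒜 := fun i => homogeneous_minimalPrimes hI ((hmin (p i)).2 ⟨i, rfl⟩)
  obtain ⟨D, hD, h0, hpos⟩ := hilb_spec hI htop hP
  have hspec : ∀ i, ∃ Di : ℕ, ringKrullDim (𝕊 ⧸ p i) = Di ∧ Di ≤ D ∧ (Di = 0 → Q i = 0) ∧
      ∀ N, Di = N + 1 → (Q i).natDegree = N ∧ 0 < (Q i).leadingCoeff := fun i => by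
    obtain ⟨Di, h1, h2, h3⟩ := hilb_spec (hph i) (hp i).ne_top (hQ i)
    refine ⟨Di, h1, ?_, h2, h3⟩
    have := dim_le_of_le (hpI i)
    rw [h1, hD] at this
    exact_mod_cast this
  choose Di hDi hDle hDi0 hDip using hspec
  rcases D with _ | N
  · rw [h0 rfl]
    refine ((Finset.sum_eq_zero fun i _ => ?_).trans (by simp)).symm
    rw [hDi0 i (Nat.le_zero.1 (hDle i))]
    simp
  obtain ⟨hdeg, -⟩ := hpos N rfl
  let ι := {i : Fin r // Di i = N + 1}
  have hcoeff := coeff_eq_sum N I hI (fun q hq h => (dim_le_of_le h).trans hD.le) (fun i : ι => p i.1)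
    (hinj.comp Subtype.val_injective) (fun i => by rw [hDi i.1, i.2]) (fun q hq hIq hqd => by
      haveI := hq
      obtain ⟨q', hq', hle⟩ := Ideal.exists_minimalPrimes_le hIq
      obtain ⟨i, rfl⟩ := (hmin q').1 hq'
      have hi : Di i = N + 1 := by
        have h1 := dim_mono hle
        rw [hqd, hDi i] at h1
        have := hDle i
        norm_cast at h1
        omega
      refine ⟨⟨i, hi⟩, ?_⟩
      by_contra hne
      exact lt_irrefl _ (dim_lt (lt_of_le_of_ne hle (Ne.symm hne)) (by rw [hDi i, hi]) hqd)) (fun i => Q i.1)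
    (fun i => hQ i.1) hP
  rw [hdeg, leadingCoeff, hdeg, hcoeff, Finset.mul_sum]
  rw [← Finset.sum_filter_add_sum_filter_not Finset.univ (fun i => Di i = N + 1),
    Finset.sum_eq_zero (s := Finset.univ.filter fun i => ¬ Di i = N + 1) fun i hi => ?_, add_zero,
    ← Finset.sum_subtype (p := fun i => Di i = N + 1) (Finset.univ.filter fun i => Di i = N + 1) (by simp)
      (fun i => (N.factorial : ℚ) * ((mult I (p i) : ℚ) * (Q i).coeff N))]
  · refine Finset.sum_congr rfl fun i hi => ?_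
    obtain ⟨h1, -⟩ := hDip i N (Finset.mem_filter.1 hi).2
    rw [if_pos h1, leadingCoeff, h1]
    ring
  · rcases hd : Di i with _ | M
    · rw [hDi0 i hd]; simp
    · rw [if_neg]
      rw [(hDip i M hd).1]
      exact fun h => (Finset.mem_filter.1 hi).2 (by omega)

end Groth.Agent.H11Misc.HilbertDeg
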