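import Groth.Agent.H11Misc.HilbertDeg
import Mathlib.Algebra.Module.Submodule.Union
import Mathlib.FieldTheory.IsAlgClosed.Basic

/-!
# Linear forms cutting a cone down to its vertex
-/

set_option autoImplicit false
set_option linter.style.haveILetI false

universe u

noncomputable section

open Polynomial
open scoped Pointwise

namespace Groth.Agent.H11Misc.HilbertDeg

variable {k : Type u} [Field k] {n : ℕ}

local notation "𝕊" => MvPolynomial (Fin (n + 1)) k
local notation "𝒜" => CohB1.polyGrading n k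
local notation "𝔪" => Ideal.span (Set.range (MvPolynomial.X : Fin (n + 1) → MvPolynomial (Fin (n + 1)) k))

theorem prod_mem_piece : ∀ (m : ℕ) (z : 𝕊),
    z ∈ (Set.range (MvPolynomial.X : Fin (n + 1) → 𝕊)) ^ m → z ∈ 𝒜 m := by
  intro m
  induction m with
  | zero =>
    intro z hz
    rw [pow_zero, Set.mem_one] at hz
    exact hz ▸ SetLike.one_mem_graded 𝒜
  | succ m ih =>
    intro z hz
    rw [pow_succ, Set.mem_mul] at hz
    obtain ⟨a, ha, b, ⟨i, rfl⟩, rfl⟩ := hz
    exact SetLike.mul_mem_graded (ih a ha) (MvPolynomial.isHomogeneous_X k i)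

theorem exists_pow_le_of_dim_le_zero {I : Ideal 𝕊} (hI : I.IsHomogeneous 𝒜)
    (h : ringKrullDim (𝕊 ⧸ I) ≤ 0) : ∃ N : ℕ, 𝔪 ^ N ≤ I := by
  obtain ⟨P, ⟨m₀, hP⟩, hdeg, -⟩ := exists_hilb 0 I hI fun q _ hq => (dim_le_of_le hq).trans (by simpa using h)
  refine ⟨m₀, ?_⟩
  have hP0 : P = 0 := degree_eq_bot.1 (by
    rcases hd : P.degree with _ | d
    · rfl
    · rw [hd] at hdeg; exact absurd hdeg (by simp))
  have h0 : hfun I m₀ = 0 := by rw [← hP m₀ le_rfl, hP0, eval_zero]
  rw [Ideal.span, Submodule.span_pow, Submodule.span_le]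
  intro z hz
  by_contra hzI
  have := one_le_hfun (prod_mem_piece m₀ z hz) hzI
  rw [h0] at this
  linarith

/-- Over an infinite field `D` general linear forms cut a `D`-dimensional cone down to its vertex. -/
theorem exists_linearForms [Infinite k] : ∀ (D : ℕ) (I : Ideal 𝕊), I.IsHomogeneous 𝒜 →
    ringKrullDim (𝕊 ⧸ I) ≤ (D : ℕ) →
    ∃ h : Fin D → 𝕊, (∀ i, h i ∈ 𝒜 1) ∧ ∃ N : ℕ, 𝔪 ^ N ≤ I ⊔ Ideal.span (Set.range h) := by
  classical
  intro D
  induction D with
  | zero =>
    intro I hI hd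
    obtain ⟨N, hN⟩ := exists_pow_le_of_dim_le_zero hI (by simpa using hd)
    exact ⟨Fin.elim0, fun i => i.elim0, N, hN.trans le_sup_left⟩
  | succ D ih =>
    intro I hI hd
    let T : Set (Ideal 𝕊) := {q | q ∈ I.minimalPrimes ∧ ringKrullDim (𝕊 ⧸ q) = ((D + 1 : ℕ) : WithBot ℕ∞)}
    haveI : Finite T := ((Ideal.finite_minimalPrimes_of_isNoetherianRing 𝕊 I).subset fun q hq => hq.1).to_subtype
    obtain ⟨⟨l, hl⟩, hlT⟩ := Submodule.exists_forall_notMem_of_forall_ne_top
      (fun q : T => (Submodule.restrictScalars k q.1).comap (𝒜 1).subtype) fun q htop => by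
        haveI := q.2.1.1.1
        obtain ⟨i, hi⟩ := exists_var_notMem (p := q.1) q.2.2
        exact hi (htop.ge (Submodule.mem_top : (⟨MvPolynomial.X i, MvPolynomial.isHomogeneous_X k i⟩ : 𝒜 1) ∈ ⊤))
    have hd' : ringKrullDim (𝕊 ⧸ (I ⊔ Ideal.span {l})) ≤ (D : ℕ) := ringKrullDim_quotient_le _ fun r hr hle => by
      haveI := hr
      obtain ⟨q, hq, hqr⟩ := Ideal.exists_minimalPrimes_le (le_sup_left.trans hle)
      haveI := hq.1.1
      obtain ⟨s, hs⟩ := exists_dim (k := k) q
      obtain ⟨t, ht⟩ := exists_dim (k := k) r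
      have h1 := (dim_le_of_le hq.1.2).trans hd
      rw [hs] at h1
      rw [ht]
      norm_cast at h1 ⊢
      rcases hqr.lt_or_eq with hlt | rfl
      · have := dim_lt hlt hs ht
        omega
      · rw [ht] at hs
        norm_cast at hs
        subst hs
        by_contra hcon
        obtain rfl : t = D + 1 := by omega
        exact hlT ⟨q, hq, ht⟩ (hle (Ideal.mem_sup_right (Ideal.mem_span_singleton_self l)))
    obtain ⟨h, hh, N, hN⟩ := ih _ (isHomogeneous_sup_span hI hl) hd'
    refine ⟨Fin.cons l h, Fin.cases hl hh, N, hN.trans ?_⟩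
    rw [Fin.range_cons, Ideal.span_insert, sup_assoc]

end Groth.Agent.H11Misc.HilbertDeg
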