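import Mathlib
set_option autoImplicit false
universe u
open CategoryTheory CategoryTheory.Limits AlgebraicGeometry
noncomputable section

namespace Groth.Agent.H11Misc.SchemeQuotient

theorem hext {X Y Z : PresheafedSpace CommRingCat.{u}} (h : X ⟶ Y) (hs : Function.Surjective h.base) [IsIso h.c]
    {f g : Y ⟶ Z} (e : h ≫ f = h ≫ g) : f = g := by
  obtain ⟨b, c⟩ := f
  obtain ⟨b', c'⟩ := g
  obtain rfl : b = b' := by
    ext y
    obtain ⟨x, rfl⟩ := hs y
    exact congr((PresheafedSpace.Hom.base $e) x)
  congr 1
  ext U : 2
  have h1 := PresheafedSpace.congr_app e (Opposite.op U)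
  simp only [PresheafedSpace.comp_c_app] at h1
  simp at h1
  exact congrArg _ ((cancel_mono (h.c.app _)).1 h1)

variable {U V : Scheme.{u}} (h : U ⟶ V) [Surjective h] [IsIso h.c] (hq : Topology.IsQuotientMap h.base) (W : Scheme.{u})

include hq in
theorem main :
    (∀ v₁ v₂ : V ⟶ W, h ≫ v₁ = h ≫ v₂ → v₁ = v₂) ∧
      ∀ u : U ⟶ W, (∀ x y : U, h.base x = h.base y → u.base x = u.base y) → ∃ v : V ⟶ W, h ≫ v = u := by
  constructor
  · intro v₁ v₂ e
    apply Scheme.forgetToLocallyRingedSpace.map_injective
    apply LocallyRingedSpace.forgetToSheafedSpace.map_injective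
    apply SheafedSpace.forgetToPresheafedSpace.map_injective
    refine hext h.toPshHom hq.surjective ?_
    exact congrArg (fun z : U ⟶ W => z.toPshHom) e
  · intro u hu
    let b : V.toTopCat ⟶ W.toTopCat := TopCat.ofHom
      { toFun := fun y => u.base (hq.surjective y).choose
        continuous_toFun := by
          refine hq.continuous_iff.2 ?_
          rw [show (fun y => u.base (hq.surjective y).choose) ∘ h.base = u.base from
            funext fun x => hu _ _ (hq.surjective (h.base x)).choose_spec]
          exact u.continuous }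
    have hb : h.base ≫ b = u.base := by
      ext x
      exact hu _ _ (hq.surjective (h.base x)).choose_spec
    let P : V.toPresheafedSpace ⟶ W.toPresheafedSpace :=
      { base := b
        c := u.c ≫ eqToHom (by rw [← hb]; rfl) ≫ (TopCat.Presheaf.pushforward CommRingCat.{u} b).map (inv h.c) }
    have hP : h.toPshHom ≫ P = u.toPshHom := by
      refine PresheafedSpace.ext _ _ hb ?_
      show ((u.c ≫ eqToHom _ ≫ (TopCat.Presheaf.pushforward CommRingCat.{u} b).map (inv h.c)) ≫
        (TopCat.Presheaf.pushforward CommRingCat.{u} b).map h.c) ≫ _ = u.c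
      rw [Category.assoc, Category.assoc, Category.assoc, ← Functor.map_comp_assoc, IsIso.inv_hom_id,
        CategoryTheory.Functor.map_id, Category.id_comp]
      refine NatTrans.ext (funext fun T => ?_)
      simp [eqToHom_map]
      erw [eqToHom_app, eqToHom_trans, eqToHom_refl]
      simp
    have hloc : ∀ y : V, IsLocalHom (P.stalkMap y).hom := by
      intro y
      obtain ⟨x, rfl⟩ := hq.surjective y
      have h1 := PresheafedSpace.stalkMap.comp h.toPshHom P x
      have h2 := PresheafedSpace.stalkMap.congr_hom _ _ hP x
      haveI : IsLocalHom (u.stalkMap x).hom := inferInstance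
      refine ⟨fun g hg => ?_⟩
      have h3 : IsUnit (((h.toPshHom ≫ P).stalkMap x).hom g) := by
        rw [h1]
        exact hg.map (h.stalkMap x).hom
      rw [h2] at h3
      simp only [CommRingCat.hom_comp, RingHom.comp_apply] at h3
      exact isUnit_of_map_unit (eqToHom _ : W.presheaf.stalk _ ⟶ W.presheaf.stalk _).hom g
        (isUnit_of_map_unit (u.stalkMap x).hom _ h3)
    refine ⟨⟨{ toHom := P, prop := hloc }⟩, ?_⟩
    apply Scheme.forgetToLocallyRingedSpace.map_injective
    apply LocallyRingedSpace.forgetToSheafedSpace.map_injective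
    apply SheafedSpace.forgetToPresheafedSpace.map_injective
    exact hP

end Groth.Agent.H11Misc.SchemeQuotient
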